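/-
Linear fractional maps keeping the set of `e`-th roots of unity and infinity, `3e + 1 = 0`.
-/
import Mathlib

set_option autoImplicit false

namespace CfsgLib.MaxSub.SLThree.Decomp

open Polynomial

variable {F : Type*} [Field F]

/-- The homogeneous condition. -/
def InSet (e : ℕ) (x y : F) : Prop := (x ≠ 0 ∧ y = 0) ∨ (y ≠ 0 ∧ x ^ e = y ^ e)

theorem vanish_of_roots {e : ℕ} (μ : Finset F) (hμ : μ.card = e) {P : F[X]}
    (hdeg : ∀ m, e ≤ m → P.coeff m = 0) (hev : ∀ z ∈ μ, P.eval z = 0) : P = 0 := by
  by_contra h0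
  have hlt : P.natDegree < e := by
    by_contra hn
    push Not at hn
    exact h0 (Polynomial.leadingCoeff_eq_zero.1 (hdeg _ hn))
  have := Polynomial.card_le_degree_of_subset_roots (p := P) (Z := μ) fun z hz => by
    rw [Polynomial.mem_roots h0]; exact hev z hz
  rw [← hμ] at hlt
  omega

theorem coeff_X_mul' (Q : F[X]) {m : ℕ} (hm : 1 ≤ m) : (X * Q).coeff m = Q.coeff (m - 1) := by
  obtain ⟨k, rfl⟩ : ∃ k, m = k + 1 := ⟨m - 1, by omega⟩
  rw [Polynomial.coeff_X_mul, Nat.add_sub_cancel]

/-- The coefficient equations have only the zero solution. -/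
theorem coeff_solve {e : ℕ} (he : 4 ≤ e) (h3 : 3 * (e : F) + 1 = 0)
    (heven : (2 : F) = 0 → e % 8 = 5) {u D : F}
    (h1 : (e.choose 2 : F) * u ^ 2 + (e : F) * u * ((e : F) * D) = 0)
    (h2 : (e.choose 3 : F) * u ^ 3 - (e : F) * u * ((e.choose 2 : F) * D ^ 2) = 0)
    (h4 : (e.choose 4 : F) * u ^ 4 + (e : F) * u * ((e.choose 3 : F) * D ^ 3) = 0) : u = 0 := by
  by_contra hu
  have he0 : (e : F) ≠ 0 := fun h => by rw [h, mul_zero, zero_add] at h3; exact one_ne_zero h3
  by_cases h20 : (2 : F) = 0
  · have h8 := heven h20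
    haveI : CharP F 2 := CharTwo.of_one_ne_zero_of_two_eq_zero one_ne_zero h20
    haveI : Fact (Nat.Prime 2) := ⟨Nat.prime_two⟩
    have par : ∀ a b : ℕ, (e.choose a) ≡ b [MOD 2] → (e.choose a : F) = (b : F) := fun a b h =>
      (CharP.natCast_eq_natCast F 2).2 h
    have c2 : (e.choose 2 : F) = 0 := by
      rw [par 2 0 ?_, Nat.cast_zero]
      refine Choose.choose_modEq_choose_mod_mul_choose_div_nat.trans ?_
      show (e % 2).choose 0 * (e / 2).choose 1 ≡ 0 [MOD 2]
      rw [Nat.choose_zero_right, Nat.choose_one_right, one_mul]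
      show (e / 2) % 2 = 0
      omega
    have c3 : (e.choose 3 : F) = 0 := by
      rw [par 3 0 ?_, Nat.cast_zero]
      refine Choose.choose_modEq_choose_mod_mul_choose_div_nat.trans ?_
      show (e % 2).choose 1 * (e / 2).choose 1 ≡ 0 [MOD 2]
      rw [Nat.choose_one_right, Nat.choose_one_right]
      show (e % 2 * (e / 2)) % 2 = 0
      rw [Nat.mul_mod, show (e / 2) % 2 = 0 by omega, mul_zero, Nat.zero_mod]
    have c4 : (e.choose 4 : F) = 1 := by
      rw [par 4 1 ?_, Nat.cast_one]
      refine Choose.choose_modEq_choose_mod_mul_choose_div_nat.trans ?_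
      show (e % 2).choose 0 * (e / 2).choose 2 ≡ 1 [MOD 2]
      rw [Nat.choose_zero_right, one_mul]
      refine Choose.choose_modEq_choose_mod_mul_choose_div_nat.trans ?_
      show (e / 2 % 2).choose 0 * (e / 2 / 2).choose 1 ≡ 1 [MOD 2]
      rw [Nat.choose_zero_right, Nat.choose_one_right, one_mul]
      show (e / 2 / 2) % 2 = 1
      omega
    rw [c2, zero_mul, zero_add, mul_eq_zero, mul_eq_zero, mul_eq_zero] at h1
    have hD : D = 0 := by
      rcases h1 with (h | h) | h | h
      · exact absurd h he0
      · exact absurd h hu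
      · exact absurd h he0
      · exact h
    rw [c4, hD] at h4
    simp [hu] at h4
  · have hc2 : (2 : F) * (e.choose 2 : F) = (e : F) * ((e : F) - 1) := by
      obtain ⟨k, rfl⟩ : ∃ k, e = k + 2 := ⟨e - 2, by omega⟩
      have h := Nat.add_one_mul_choose_eq (k + 1) 1
      rw [Nat.choose_one_right] at h
      have h' := congrArg (Nat.cast (R := F)) h
      push_cast at h' ⊢
      linear_combination -h'
    have hc3 : (3 : F) * (e.choose 3 : F) = (e.choose 2 : F) * ((e : F) - 2) := by
      obtain ⟨k, rfl⟩ : ∃ k, e = k + 2 := ⟨e - 2, by omega⟩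
      have h := Nat.choose_succ_right_eq (k + 2) 2
      rw [Nat.add_sub_cancel] at h
      have h' := congrArg (Nat.cast (R := F)) h
      push_cast at h' ⊢
      linear_combination h'
    have hc4 : (4 : F) * (e.choose 4 : F) = (e.choose 3 : F) * ((e : F) - 3) := by
      obtain ⟨k, rfl⟩ : ∃ k, e = k + 3 := ⟨e - 3, by omega⟩
      have h := Nat.choose_succ_right_eq (k + 3) 3
      rw [Nat.add_sub_cancel] at h
      have h' := congrArg (Nat.cast (R := F)) h
      push_cast at h' ⊢
      linear_combination h'
    have h3' : (3 : F) ≠ 0 := fun h => by rw [h, zero_mul, zero_add] at h3; exact one_ne_zero h3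
    have eD : D = -2 * (-u) * (-1) := by
      have e1 : (e : F) * u * (((e : F) - 1) * u + 2 * (e : F) * D) = 0 := by
        linear_combination 2 * h1 - u ^ 2 * hc2
      have e2 := (mul_eq_zero.1 e1).resolve_left (mul_ne_zero he0 hu)
      have e3 : (2 : F) * (D + 2 * u) = 0 := by linear_combination -3 * e2 + (u + 2 * D) * h3
      linear_combination (mul_eq_zero.1 e3).resolve_left h20
    have hD : D = -2 * u := by linear_combination eD
    have hch2 : (e.choose 2 : F) ≠ 0 := fun h => by
      rw [h, mul_zero] at hc2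
      rcases mul_eq_zero.1 hc2.symm with h' | h'
      · exact he0 h'
      · have : (4 : F) = 0 := by linear_combination h3 - 3 * h'
        exact h20 (mul_self_eq_zero.1 (by linear_combination this))
    have h5 : (5 : F) = 0 := by
      have e1 : (e.choose 2 : F) * u ^ 3 * ((e : F) - 2 - 12 * (e : F)) = 0 := by
        linear_combination 3 * h2 - u ^ 3 * hc3 + 3 * (e : F) * u * (e.choose 2 : F) * (D - 2 * u) * hD
      have e2 := (mul_eq_zero.1 e1).resolve_left (mul_ne_zero hch2 (pow_ne_zero 3 hu))
      linear_combination 3 * e2 + 11 * h3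
    have e1 : (e.choose 3 : F) * u ^ 4 * (((e : F) - 3) - 32 * (e : F)) = 0 := by
      linear_combination 4 * h4 - u ^ 4 * hc4 - 4 * (e : F) * (e.choose 3 : F) * u * (D ^ 2 - 2 * u * D + 4 * u ^ 2) * hD
    have hch3 : (e.choose 3 : F) ≠ 0 := fun h => by
      rw [h, mul_zero] at hc3
      rcases mul_eq_zero.1 hc3.symm with h' | h'
      · exact hch2 h'
      · have : (7 : F) = 0 := by linear_combination h3 - 3 * h'
        exact h20 (by linear_combination this - h5)
    have e2 := (mul_eq_zero.1 e1).resolve_left (mul_ne_zero hch3 (pow_ne_zero 4 hu))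
    exact h20 (by linear_combination 3 * e2 + 31 * h3 - 4 * h5)

/-- A map fixing the set fixes `0` and `∞`. -/
theorem mobius {e : ℕ} (he : 4 ≤ e) (h3 : 3 * (e : F) + 1 = 0) (heven : (2 : F) = 0 → e % 8 = 5)
    (μ : Finset F) (hμ : μ.card = e) (hμe : ∀ z ∈ μ, z ^ e = 1) {A B C D : F}
    (hdet : A * D - B * C ≠ 0) (hmap : ∀ x y, InSet e x y → InSet e (A * x + B * y) (C * x + D * y)) :
    B = 0 ∧ C = 0 := by
  classical
  have he0 : (e : F) ≠ 0 := fun h => by rw [h, mul_zero, zero_add] at h3; exact one_ne_zero h3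
  have hroot : ∀ z ∈ μ, InSet e z 1 := fun z hz => Or.inr ⟨one_ne_zero, by rw [hμe z hz, one_pow]⟩
  by_cases hC : C = 0
  · refine ⟨?_, hC⟩
    rw [hC, mul_zero, sub_zero, mul_ne_zero_iff] at hdet
    set g := B / D
    set a := A / D
    have ha : a ≠ 0 := div_ne_zero hdet.1 hdet.2
    have hz : ∀ z ∈ μ, (a * z + g) ^ e = 1 := fun z hz => by
      rcases hmap z 1 (hroot z hz) with ⟨-, h⟩ | ⟨-, h⟩
      · rw [hC, zero_mul, zero_add, mul_one] at h; exact absurd h hdet.2
      · rw [hC, zero_mul, zero_add, mul_one, mul_one] at h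
        rw [show a * z + g = (A * z + B) / D by simp only [a, g]; field_simp, div_pow, h,
          div_self (pow_ne_zero _ hdet.2)]
    -- in the variable `w = a z`
    have hP : (X + Polynomial.C g) ^ e - 1 - (X ^ e - Polynomial.C (a ^ e)) = (0 : F[X]) := by
      refine vanish_of_roots (e := e) (μ.image fun z => a * z) ?_ (fun m hm => ?_) ?_
      · rw [Finset.card_image_of_injective _ (mul_right_injective₀ ha), hμ]
      · rw [coeff_sub, coeff_sub, coeff_sub, coeff_X_add_C_pow, coeff_X_pow, coeff_C, if_neg (by omega : ¬ m = 0),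
          coeff_one, if_neg (by omega : ¬ m = 0)]
        rcases eq_or_lt_of_le hm with h | h
        · subst h; simp
        · rw [Nat.choose_eq_zero_of_lt h, if_neg (by omega : ¬ m = e)]; simp
      · intro w hw
        obtain ⟨z, hzμ, rfl⟩ := Finset.mem_image.1 hw
        simp only [eval_sub, eval_pow, eval_add, eval_X, eval_C, eval_one]
        rw [hz z hzμ, mul_pow, hμe z hzμ]; ring
    have h := congrArg (fun P : F[X] => P.coeff (e - 1)) hP
    simp only [coeff_sub, coeff_X_add_C_pow, coeff_X_pow, coeff_C, coeff_one, coeff_zero,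
      show e - 1 ≠ 0 by omega, show e - 1 ≠ e by omega, if_false] at h
    rw [show e - (e - 1) = 1 by omega, pow_one,
      Nat.choose_symm (by omega : 1 ≤ e), Nat.choose_one_right] at h
    simp only [sub_zero, mul_eq_zero, he0, or_false] at h
    exact (div_eq_zero_iff.1 h).resolve_right hdet.2
  · exfalso
    set a := A / C with ha
    have hae : a ^ e = 1 := by
      rcases hmap 1 0 (Or.inl ⟨one_ne_zero, rfl⟩) with ⟨-, h⟩ | ⟨-, h⟩
      · simp [hC] at h
      · rw [mul_one, mul_zero, add_zero, mul_one, mul_zero, add_zero] at h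
        rw [ha, div_pow, h, div_self (pow_ne_zero _ hC)]
    have ha0 : a ≠ 0 := fun h => by rw [h, zero_pow (by omega)] at hae; exact zero_ne_one hae
    set u := (B - a * D) / a with hu
    have hu0 : u ≠ 0 := by
      rw [hu]
      refine div_ne_zero (fun h => hdet ?_) ha0
      have : a * C = A := by rw [ha, div_mul_cancel₀ _ hC]
      linear_combination (-D) * this + (-C) * h
    have hz : ∀ z ∈ μ, (C * z + D) * (((C * z + D) + u) ^ e - (C * z + D) ^ e) = 0 := fun z hz => by
      rcases hmap z 1 (hroot z hz) with ⟨-, h⟩ | ⟨-, h⟩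
      · rw [mul_one] at h; rw [h, zero_mul]
      · rw [mul_one, mul_one] at h
        rw [show A * z + B = a * ((C * z + D) + u) by
          have haC : a * C = A := by rw [ha, div_mul_cancel₀ _ hC]
          have hau : a * u = B - a * D := by rw [hu, mul_div_cancel₀ _ ha0]
          linear_combination (-z) * haC - hau, mul_pow, hae,
          one_mul] at h
        rw [h, sub_self, mul_zero]
    set Q : F[X] := X * ((X + Polynomial.C u) ^ e - X ^ e) -
      Polynomial.C ((e : F) * u) * ((X + Polynomial.C (-D)) ^ e - Polynomial.C (C ^ e)) with hQ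
    have hcoef : ∀ m, 1 ≤ m → Q.coeff m = u ^ (e - (m - 1)) * (e.choose (m - 1) : F) - (if m - 1 = e then 1 else 0)
        - (e : F) * u * ((-D) ^ (e - m) * (e.choose m : F)) := fun m hm => by
      simp only [hQ, coeff_sub, coeff_X_mul' _ hm, coeff_X_add_C_pow, coeff_X_pow, coeff_C_mul,
        coeff_C, if_neg (show m ≠ 0 by omega), sub_zero]
    have hQ0 : Q = 0 := by
      refine vanish_of_roots (e := e) (μ.image fun z => C * z + D) ?_ (fun m hm => ?_) ?_
      · rw [Finset.card_image_of_injective _ (fun x y h => mul_left_cancel₀ hC (add_right_cancel h)), hμ]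
      · rw [hcoef m (by omega)]
        rcases eq_or_lt_of_le hm with h | h
        · subst h
          rw [show e - (e - 1) = 1 by omega, pow_one, Nat.choose_symm (by omega : 1 ≤ e),
            Nat.choose_one_right, if_neg (by omega : ¬ e - 1 = e), Nat.choose_self, Nat.sub_self, pow_zero]
          push_cast; ring
        · rw [Nat.choose_eq_zero_of_lt h, Nat.cast_zero, mul_zero, mul_zero, sub_zero]
          by_cases h' : m - 1 = e
          · rw [if_pos h', h', Nat.sub_self, pow_zero, Nat.choose_self, Nat.cast_one, one_mul, sub_self]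
          · rw [if_neg h', Nat.choose_eq_zero_of_lt (by omega : e < m - 1), Nat.cast_zero, mul_zero,
              sub_zero]
      · intro w hw
        obtain ⟨z, hzμ, rfl⟩ := Finset.mem_image.1 hw
        simp only [hQ, eval_sub, eval_mul, eval_pow, eval_add, eval_X, eval_C]
        rw [hz z hzμ, show C * z + D + -D = C * z by ring, mul_pow, hμe z hzμ, mul_one, sub_self,
          mul_zero, sub_zero]
    have eq : ∀ i, 1 ≤ i → i ≤ 3 → (e.choose (i + 1) : F) * u ^ (i + 1) -
        (e : F) * u * ((e.choose i : F) * (-D) ^ i) = 0 := fun i h1 h2 => by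
      have h := hcoef (e - i) (by omega)
      rw [hQ0, coeff_zero, show e - i - 1 = e - (i + 1) by omega, if_neg (by omega : ¬ e - (i + 1) = e),
        show e - (e - (i + 1)) = i + 1 by omega, show e - (e - i) = i by omega,
        Nat.choose_symm (by omega : i + 1 ≤ e), Nat.choose_symm (by omega : i ≤ e), sub_zero] at h
      linear_combination -h
    refine hu0 (coeff_solve he h3 heven ?_ ?_ ?_ (D := D))
    · have := eq 1 le_rfl (by omega)
      rw [Nat.choose_one_right] at this
      linear_combination this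
    · have := eq 2 (by omega) (by omega)
      linear_combination this
    · have := eq 3 (by omega) le_rfl
      linear_combination this

end CfsgLib.MaxSub.SLThree.Decomp
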