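/-
Members of an overgroup of the monomial group of `SL_3` which fix a point.
-/
import Cfsg.Agent.Lib.MaxSub.Monomial.Basic
import Cfsg.Agent.Lib.MaxSub.SLThree.Tools

set_option autoImplicit false
set_option maxHeartbeats 800000
set_option linter.unusedSectionVars false

namespace CfsgLib.MaxSub.SLThree.Decomp

open Matrix CfsgLib.MaxSub.Monomial

variable {F : Type*} [Field F] [Fintype F] {K : Subgroup (Matrix.SpecialLinearGroup (Fin 3) F)}

local notation "Mn" => Matrix (Fin 3) (Fin 3) F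
local notation "V" => Fin 3 → F

theorem exists_pow_ne (k : ℕ) (hk : 0 < k) (h : k + 1 < Fintype.card F) :
    ∃ a : F, a ≠ 0 ∧ a ^ k ≠ 1 := by
  classical
  by_contra hn
  push Not at hn
  have h1 : (Finset.univ.erase (0 : F)) ⊆ (Polynomial.nthRoots k (1 : F)).toFinset := fun a ha => by
    rw [Multiset.mem_toFinset, Polynomial.mem_nthRoots hk]
    exact hn a (Finset.mem_erase.1 ha).1
  have h2 := (Finset.card_le_card h1).trans
    ((Multiset.toFinset_card_le _).trans (Polynomial.card_nthRoots k (1 : F)))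
  rw [Finset.card_erase_of_mem (Finset.mem_univ _), Finset.card_univ] at h2
  omega

theorem In.scalarPerm (hN : HasMono K) (σ : Equiv.Perm (Fin 3)) :
    ∃ d : V, (∀ i, d i ≠ 0) ∧ In K (monM σ d) := by
  refine ⟨fun i => if i = 0 then ((Equiv.Perm.sign σ : ℤ) : F) else 1, fun i => ?_, In.monM hN σ _ ?_⟩
  · show (if i = 0 then _ else _) ≠ (0 : F)
    split_ifs
    · rcases Int.units_eq_one_or (Equiv.Perm.sign σ) with h | h <;> simp [h]
    · exact one_ne_zero
  · rw [Fin.prod_univ_three]
    rcases Int.units_eq_one_or (Equiv.Perm.sign σ) with h | h <;> simp [h]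

theorem mono_of_mul {A S : Mn} (hS : Mono S) (hSd : S.det ≠ 0) (h : Mono (S * A)) : Mono A := by
  have hu := (Matrix.isUnit_iff_isUnit_det S).2 (isUnit_iff_ne_zero.2 hSd)
  have h1 : S * S⁻¹ = 1 := Matrix.mul_nonsing_inv S (isUnit_iff_ne_zero.2 hSd)
  have h2 : S⁻¹ * S = 1 := Matrix.nonsing_inv_mul S (isUnit_iff_ne_zero.2 hSd)
  have := (mono_inverse hS h1).mul h
  rwa [← Matrix.mul_assoc, h2, Matrix.one_mul] at this

/-- A member fixing the first point fixes the opposite line. -/
theorem fix_zero (hq : 5 ≤ Fintype.card F) (hN : HasMono K) (hK : K ≠ ⊤) {A : Mn} (hA : In K A)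
    (h1 : A 1 0 = 0) (h2 : A 2 0 = 0) : A 0 1 = 0 ∧ A 0 2 = 0 := by
  by_contra hne
  obtain ⟨a, ha, ha3⟩ := exists_pow_ne (F := F) 3 (by norm_num) (by omega)
  set r : F := a⁻¹ ^ 3 with hr
  have hr1 : r ≠ 1 := fun h => ha3 (by rw [hr, inv_pow, inv_eq_one] at h; exact h)
  have hd : ∏ i, (![a⁻¹ * a⁻¹, a, a] : V) i = 1 := by
    rw [Fin.prod_univ_three]
    show a⁻¹ * a⁻¹ * a * a = 1
    field_simp
  obtain ⟨B, hB, hAB, hBA⟩ := hA.inverse
  set ψ : V := ![0, A 0 1, A 0 2] ᵥ* B with hψ
  have hψ0 : ψ 0 = 0 := by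
    have e := congrFun (congrFun hBA 0) 0
    have e1 := congrFun (congrFun hBA 1) 0
    have e2 := congrFun (congrFun hBA 2) 0
    rw [Matrix.mul_apply, Fin.sum_univ_three, h1, h2, mul_zero, add_zero, mul_zero, add_zero,
      Matrix.one_apply] at e e1 e2
    rw [if_pos rfl] at e
    rw [if_neg (by decide), mul_eq_zero] at e1 e2
    have hA0 : A 0 0 ≠ 0 := fun h => by rw [h, mul_zero] at e; exact zero_ne_one e
    simp [hψ, Matrix.vecMul, dotProduct, Fin.sum_univ_three, e1.resolve_right hA0,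
      e2.resolve_right hA0]
  have hψne : ψ ≠ 0 := fun h => hne (by
    have := congrArg (fun z : V => z ᵥ* A) h
    simp only [hψ, Matrix.vecMul_vecMul, hBA, Matrix.vecMul_one, Matrix.zero_vecMul] at this
    exact ⟨congrFun this 1, congrFun this 2⟩)
  have hU : In K (1 + vecMulVec (Pi.single 0 (r - 1)) ψ) := by
    convert (In.torus hN hA _ hd).mul hB using 1
    have e : Matrix.of (fun i j => (![a⁻¹ * a⁻¹, a, a] : V) i * A i j * ((![a⁻¹ * a⁻¹, a, a] : V) j)⁻¹) =
        A + vecMulVec (Pi.single 0 (r - 1)) ![0, A 0 1, A 0 2] := by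
      ext i j
      rw [Matrix.of_apply, Matrix.add_apply, vecMulVec_apply, hr]
      fin_cases i <;> fin_cases j <;> simp [h1, h2, Pi.single_apply] <;> field_simp <;> ring
    rw [e, Matrix.add_mul, hAB, hψ, vecMulVec_mul]
  -- from this a root element
  set x := (r - 1) * ψ 1 with hx
  set y := (r - 1) * ψ 2 with hy
  have hU' : In K (1 + Matrix.single 0 1 x + Matrix.single 0 2 y) := by
    convert hU using 1
    ext i j
    fin_cases i <;> fin_cases j <;>
      simp [vecMulVec_apply, Matrix.single_apply, hψ0, hx, hy]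
  by_cases hy0 : y = 0
  · refine hK (top_of_root hN le_rfl (a := 0) (b := 1) (by decide) (ν := x) ?_ ?_)
    · intro hx0
      refine hψne (funext fun i => ?_)
      fin_cases i
      · exact hψ0
      · exact (mul_eq_zero.1 hx0).resolve_left (sub_ne_zero.2 hr1)
      · exact (mul_eq_zero.1 hy0).resolve_left (sub_ne_zero.2 hr1)
    · show In K _
      rwa [hy0, Matrix.single_zero, add_zero] at hU'
  · have hd' : ∏ i, (![a, a, a⁻¹ * a⁻¹] : V) i = 1 := by
      rw [Fin.prod_univ_three]
      show a * a * (a⁻¹ * a⁻¹) = 1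
      field_simp
    have hV := In.torus hN hU' _ hd'
    obtain ⟨W, hW, hUW, -⟩ := hU'.inverse
    have hWe : W = 1 - Matrix.single 0 1 x - Matrix.single 0 2 y := by
      refine (left_inv_eq_right_inv ?_ hUW).symm
      ext i j
      fin_cases i <;> fin_cases j <;>
        simp [Matrix.mul_apply, Fin.sum_univ_three, Matrix.single_apply, Matrix.one_apply]
    refine hK (top_of_root hN le_rfl (a := 0) (b := 2) (by decide) (ν := (a ^ 3 - 1) * y) ?_ ?_)
    · exact mul_ne_zero (sub_ne_zero.2 ha3) hy0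
    · show In K _
      convert hV.mul hW using 1
      rw [hWe]
      ext i j
      fin_cases i <;> fin_cases j <;>
        simp [Matrix.mul_apply, Fin.sum_univ_three, Matrix.single_apply, Matrix.one_apply, ha] <;>
        field_simp <;> ring

/-- A member fixing any coordinate point fixes the opposite line. -/
theorem fix_point (hq : 5 ≤ Fintype.card F) (hN : HasMono K) (hK : K ≠ ⊤) {A : Mn} (hA : In K A)
    (k : Fin 3) (h : ∀ i, i ≠ k → A i k = 0) : ∀ j, j ≠ k → A k j = 0 := by
  intro j hj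
  obtain ⟨d, hd, hm⟩ := In.scalarPerm hN (Equiv.swap 0 k)
  set σ := Equiv.swap (0 : Fin 3) k with hσ
  have hσ0 : σ 0 = k := Equiv.swap_apply_left 0 k
  have hsymm : σ.symm = σ := Equiv.symm_swap 0 k
  have hent : ∀ i l, (monM σ d * A * monM σ d) i l = d (σ i) * A (σ i) (σ l) * d l := by
    intro i l
    rw [Matrix.mul_apply, Finset.sum_eq_single (σ l) (fun m _ hm => by simp [monM_apply, hm])
      (fun h => absurd (Finset.mem_univ _) h), Matrix.mul_apply,
      Finset.sum_eq_single (σ i) (fun m _ hm => by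
        rw [monM_apply, if_neg fun e => hm (by rw [e, hσ, Equiv.swap_apply_self]), zero_mul])
        (fun h => absurd (Finset.mem_univ _) h),
      monM_apply, monM_apply, if_pos rfl, if_pos (by rw [hσ, Equiv.swap_apply_self])]
  have hz : ∀ i : Fin 3, i ≠ 0 → (monM σ d * A * monM σ d) i 0 = 0 := fun i hi => by
    rw [hent, hσ0, h _ fun e => hi (σ.injective (e.trans hσ0.symm)), mul_zero, zero_mul]
  obtain ⟨e1, e2⟩ := fix_zero hq hN hK ((hm.mul hA).mul hm) (hz 1 (by decide)) (hz 2 (by decide))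
  obtain ⟨l, rfl⟩ : ∃ l, j = σ l := ⟨σ.symm j, (σ.apply_symm_apply j).symm⟩
  have hl : l ≠ 0 := fun e => hj (by rw [e, hσ0])
  have : (monM σ d * A * monM σ d) 0 l = 0 := by
    fin_cases l
    · exact absurd rfl hl
    · exact e1
    · exact e2
  rw [hent, hσ0] at this
  simpa [hd] using this

theorem swap12_mul (d : V) (A : Mn) (i j : Fin 3) :
    (monM (Equiv.swap 1 2) d * A) i j = d (Equiv.swap 1 2 i) * A (Equiv.swap 1 2 i) j := by
  rw [Matrix.mul_apply, Finset.sum_eq_single (Equiv.swap 1 2 i) (fun m _ hm => ?_)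
    (fun h => absurd (Finset.mem_univ _) h), monM_apply, if_pos (Equiv.swap_apply_self 1 2 i).symm]
  rw [monM_apply, if_neg fun e => hm (by rw [e, Equiv.swap_apply_self]), zero_mul]

/-- A block member fixing a second point is monomial. -/
theorem mono_of_zero (hq : 5 ≤ Fintype.card F) (hN : HasMono K) (hK : K ≠ ⊤) {A : Mn} (hA : In K A)
    (h10 : A 1 0 = 0) (h20 : A 2 0 = 0) (h01 : A 0 1 = 0) (h02 : A 0 2 = 0)
    (hz : A 1 1 = 0 ∨ A 1 2 = 0 ∨ A 2 1 = 0 ∨ A 2 2 = 0) : Mono A := by
  have key : ∀ B : Mn, In K B → B 1 0 = 0 → B 2 0 = 0 → B 0 1 = 0 → B 0 2 = 0 →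
      B 1 2 = 0 ∨ B 2 1 = 0 → Mono B := by
    intro B hB a1 a2 a3 a4 hb
    have hb' : B 1 2 = 0 ∧ B 2 1 = 0 := by
      rcases hb with e | e
      · refine ⟨e, fix_point hq hN hK hB 2 (fun i hi => ?_) 1 (by decide)⟩
        fin_cases i
        · exact a4
        · exact e
        · exact absurd rfl hi
      · refine ⟨fix_point hq hN hK hB 1 (fun i hi => ?_) 2 (by decide), e⟩
        fin_cases i
        · exact a3
        · exact absurd rfl hi
        · exact e
    intro j
    refine ⟨j, fun i hi => ?_⟩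
    fin_cases i <;> fin_cases j <;> first | exact absurd rfl hi | assumption | exact hb'.1 | exact hb'.2
  by_cases hd : A 1 2 = 0 ∨ A 2 1 = 0
  · exact key A hA h10 h20 h01 h02 hd
  push Not at hd
  obtain ⟨d, hd0, hm⟩ := In.scalarPerm hN (Equiv.swap (1 : Fin 3) 2)
  have e0 : Equiv.swap (1 : Fin 3) 2 0 = 0 := by decide
  have e1 : Equiv.swap (1 : Fin 3) 2 1 = 2 := Equiv.swap_apply_left 1 2
  have e2 : Equiv.swap (1 : Fin 3) 2 2 = 1 := Equiv.swap_apply_right 1 2
  refine mono_of_mul (mono_monM _ d) (by rw [hm.det]; exact one_ne_zero) (key _ (hm.mul hA) ?_ ?_ ?_ ?_ ?_) <;>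
    simp only [swap12_mul, e0, e1, e2, h10, h20, h01, h02, mul_zero]
  rcases hz with h | h | h | h
  · exact Or.inr (by rw [h, mul_zero])
  · exact absurd h hd.1
  · exact absurd h hd.2
  · exact Or.inl (by rw [h, mul_zero])

/-- A member fixing the first point is monomial, for at least seven field elements. -/
theorem block_mono (hq : 7 ≤ Fintype.card F) (hN : HasMono K) (hK : K ≠ ⊤) {A : Mn} (hA : In K A)
    (h10 : A 1 0 = 0) (h20 : A 2 0 = 0) : Mono A := by
  classical
  obtain ⟨h01, h02⟩ := fix_zero (by omega) hN hK hA h10 h20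
  by_contra hm
  have hne : ∀ B : Mn, In K B → B 1 0 = 0 → B 2 0 = 0 → B 0 1 = 0 → B 0 2 = 0 → ¬ Mono B →
      B 1 1 ≠ 0 ∧ B 1 2 ≠ 0 ∧ B 2 1 ≠ 0 ∧ B 2 2 ≠ 0 := by
    intro B hB a1 a2 a3 a4 hBm
    refine ⟨?_, ?_, ?_, ?_⟩ <;> intro h <;> refine hBm (mono_of_zero (by omega) hN hK hB a1 a2 a3 a4 ?_) <;>
      simp [h]
  obtain ⟨ha, hb, hc, hd⟩ := hne A hA h10 h20 h01 h02 hm
  set a := A 1 1
  set b := A 1 2
  set c := A 2 1
  set d := A 2 2
  obtain ⟨B, hB, hAB, hBA⟩ := hA.inverse
  have hdet : a * d - b * c ≠ 0 := fun h => by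
    have := hA.det
    rw [Matrix.det_fin_three, h10, h20, h01, h02] at this
    simp only [mul_zero, zero_mul, sub_zero, add_zero] at this
    rw [show A 0 0 * A 1 1 * A 2 2 - A 0 0 * A 1 2 * A 2 1 = A 0 0 * (a * d - b * c) by
      simp only [a, b, c, d]; ring, h, mul_zero] at this
    exact zero_ne_one this
  -- all block members have the same cross ratio
  have hquad : ∀ l : F, l ≠ 0 → l * a * a + b * c ≠ 0 → l * a + d ≠ 0 → l * b * c + d * d ≠ 0 →
      a ^ 2 * l ^ 2 + (a * d + b * c) * l + d ^ 2 = 0 := by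
    intro l hl n1 n2 n3
    have hp : ∏ i, (![l⁻¹, l, 1] : V) i = 1 := by
      rw [Fin.prod_univ_three]
      show l⁻¹ * l * 1 = 1
      field_simp
    set X := A * Matrix.diagonal (![l⁻¹, l, 1] : V) * A with hX
    have hXK : In K X := (hA.mul (In.diagonal hN _ hp)).mul hA
    have ent : ∀ i j, X i j = A i 0 * l⁻¹ * A 0 j + A i 1 * l * A 1 j + A i 2 * A 2 j := fun i j => by
      rw [hX, Matrix.mul_apply, Fin.sum_univ_three]
      simp [Matrix.mul_diagonal]
    have X11 : X 1 1 = a * l * a + b * c := by rw [ent, h01]; ring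
    have X12 : X 1 2 = a * l * b + b * d := by rw [ent, h02]; ring
    have X21 : X 2 1 = c * l * a + d * c := by rw [ent, h01]; ring
    have X22 : X 2 2 = c * l * b + d * d := by rw [ent, h02]; ring
    have X10 : X 1 0 = 0 := by rw [ent, h10, h20]; ring
    have X20 : X 2 0 = 0 := by rw [ent, h10, h20]; ring
    have X01 : X 0 1 = 0 := by rw [ent, h01, h02]; ring
    have X02 : X 0 2 = 0 := by rw [ent, h01, h02]; ring
    -- scale so that the first columns agree
    have hX11 : X 1 1 ≠ 0 := by rw [X11]; intro h; exact n1 (by linear_combination h)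
    have hX21 : X 2 1 ≠ 0 := by
      rw [X21, show c * l * a + d * c = c * (l * a + d) by ring]
      exact mul_ne_zero hc n2
    set s := (X 2 1 / c) / (X 1 1 / a) with hs
    have hs0 : s ≠ 0 := div_ne_zero (div_ne_zero hX21 hc) (div_ne_zero hX11 ha)
    have hp2 : ∏ i, (![s⁻¹, 1, s] : V) i = 1 := by
      rw [Fin.prod_univ_three]
      show s⁻¹ * 1 * s = 1
      field_simp
    set L := Matrix.diagonal (![s⁻¹, 1, s] : V) * A with hL
    have hLK : In K L := (In.diagonal hN _ hp2).mul hA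
    have L0 : ∀ j, L 0 j = s⁻¹ * A 0 j := fun j => by rw [hL, Matrix.diagonal_mul]; rfl
    have L1 : ∀ j, L 1 j = A 1 j := fun j => by rw [hL, Matrix.diagonal_mul]; exact one_mul _
    have L2 : ∀ j, L 2 j = s * A 2 j := fun j => by rw [hL, Matrix.diagonal_mul]; rfl
    obtain ⟨Y, hY, hLY, hYL⟩ := hLK.inverse
    set Z := Y * X with hZ
    have hZK : In K Z := hY.mul hXK
    set t := X 1 1 / a with ht
    have hcol : ∀ i, X i 1 = t * L i 1 := fun i => by
      fin_cases i
      · show X 0 1 = t * L 0 1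
        rw [X01, L0, h01]; ring
      · show X 1 1 = t * L 1 1
        rw [L1, ht, div_mul_cancel₀ _ ha]
      · show X 2 1 = t * L 2 1
        rw [L2, hs, ht]
        show _ = _ * (_ * c)
        field_simp
    have hZcol : ∀ i, i ≠ 1 → Z i 1 = 0 := fun i hi => by
      have : Z i 1 = t * (Y * L) i 1 := by
        rw [hZ, Matrix.mul_apply, Matrix.mul_apply, Finset.mul_sum]
        exact Finset.sum_congr rfl fun k _ => by rw [hcol k]; ring
      rw [this, hYL, Matrix.one_apply, if_neg hi, mul_zero]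
    have hZ12 : Z 1 2 = 0 := fix_point (by omega) hN hK hZK 1 hZcol 2 (by decide)
    have hXZ : X = L * Z := by rw [hZ, ← Matrix.mul_assoc, hLY, Matrix.one_mul]
    have e1 : X 1 2 = b * Z 2 2 := by
      rw [hXZ, Matrix.mul_apply, Fin.sum_univ_three, L1 0, h10, hZ12, L1 2]; ring
    have e2 : X 2 2 = s * d * Z 2 2 := by
      rw [hXZ, Matrix.mul_apply, Fin.sum_univ_three, L2 0, h20, hZ12, L2 2]; ring
    have key : X 2 2 * b * X 1 1 * c = X 1 2 * d * X 2 1 * a := by
      rw [e1, e2, hs, ht]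
      field_simp
    rw [X11, X12, X21, X22] at key
    have : (a * d - b * c) * (a ^ 2 * l ^ 2 + (a * d + b * c) * l + d ^ 2) * (b * c) = 0 := by
      linear_combination -key
    exact (mul_eq_zero.1 ((mul_eq_zero.1 this).resolve_right (mul_ne_zero hb hc))).resolve_left hdet
  -- too many roots
  let P : Polynomial F :=
    Polynomial.C (a ^ 2) * Polynomial.X ^ 2 + Polynomial.C (a * d + b * c) * Polynomial.X + Polynomial.C (d ^ 2)
  have hP0 : P ≠ 0 := fun h => by
    have := congrArg (fun P : Polynomial F => P.eval 0) h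
    simp [P, hd] at this
  have hdeg : P.natDegree ≤ 2 := Polynomial.natDegree_quadratic_le
  have hsub : Finset.univ \ ({0, -(b * c) / (a * a), -d / a, -(d * d) / (b * c)} : Finset F) ⊆ P.roots.toFinset := by
    intro l hl
    simp only [Finset.mem_sdiff, Finset.mem_insert, Finset.mem_singleton, not_or] at hl
    obtain ⟨-, n0, n1, n2, n3⟩ := hl
    rw [Multiset.mem_toFinset, Polynomial.mem_roots hP0]
    show P.eval l = 0
    simp only [P, Polynomial.eval_add, Polynomial.eval_mul, Polynomial.eval_C, Polynomial.eval_pow,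
      Polynomial.eval_X]
    refine hquad l n0 (fun h => n1 ?_) (fun h => n2 ?_) (fun h => n3 ?_)
    · rw [eq_div_iff (mul_ne_zero ha ha)]; linear_combination h
    · rw [eq_div_iff ha]; linear_combination h
    · rw [eq_div_iff (mul_ne_zero hb hc)]; linear_combination h
  have h1 := (Finset.card_le_card hsub).trans ((Multiset.toFinset_card_le _).trans
    ((Polynomial.card_roots' P).trans hdeg))
  have h2 := Finset.le_card_sdiff ({0, -(b * c) / (a * a), -d / a, -(d * d) / (b * c)} : Finset F) Finset.univ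
  have h3 : ({0, -(b * c) / (a * a), -d / a, -(d * d) / (b * c)} : Finset F).card ≤ 4 := Finset.card_le_four
  rw [Finset.card_univ] at h2
  omega

end CfsgLib.MaxSub.SLThree.Decomp
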