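/-
The orbit of the coordinate points under an overgroup of the monomial group of `SL_3`.
-/
import Cfsg.Agent.Lib.MaxSub.SLThree.Decomp.Core
import Cfsg.Agent.Lib.MaxSub.SLThree.Polarity

set_option autoImplicit false
set_option maxHeartbeats 800000
set_option linter.unusedSectionVars false

namespace CfsgLib.MaxSub.SLThree.Decomp

open Matrix CfsgLib.MaxSub.Monomial

variable {F : Type*} [Field F] [Fintype F] {K : Subgroup (Matrix.SpecialLinearGroup (Fin 3) F)}

local notation "Mn" => Matrix (Fin 3) (Fin 3) F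
local notation "V" => Fin 3 → F
local notation "SL" => Matrix.SpecialLinearGroup (Fin 3) F

/-- In the orbit of the coordinate points. -/
def Om (K : Subgroup (Matrix.SpecialLinearGroup (Fin 3) F)) (v : Fin 3 → F) : Prop :=
  ∃ A, In K A ∧ ∃ s : F, s ≠ 0 ∧ v = s • (A *ᵥ Pi.single 0 1)

/-- The product of the coordinates. -/
def prodc (v : Fin 3 → F) : F := v 0 * v 1 * v 2

/-- Exactly one coordinate vanishes. -/
def IsSide (v : Fin 3 → F) : Prop := ∃ i, v i = 0 ∧ ∀ j, j ≠ i → v j ≠ 0

theorem In.cancel {A : Mn} (hA : In K A) {v : V} (h : A *ᵥ v = 0) : v = 0 := by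
  obtain ⟨B, -, -, hBA⟩ := hA.inverse
  rw [← Matrix.one_mulVec v, ← hBA, ← Matrix.mulVec_mulVec, h, Matrix.mulVec_zero]

theorem Om.ne_zero {v : V} (h : Om K v) : v ≠ 0 := by
  obtain ⟨A, hA, s, hs, rfl⟩ := h
  intro h0
  have := In.cancel hA ((smul_eq_zero.1 h0).resolve_left hs)
  simpa using congrFun this 0

theorem Om.smul {v : V} (h : Om K v) {t : F} (ht : t ≠ 0) : Om K (t • v) := by
  obtain ⟨A, hA, s, hs, rfl⟩ := h
  exact ⟨A, hA, t * s, mul_ne_zero ht hs, smul_smul _ _ _⟩

theorem Om.act {v : V} (h : Om K v) {B : Mn} (hB : In K B) : Om K (B *ᵥ v) := by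
  obtain ⟨A, hA, s, hs, rfl⟩ := h
  exact ⟨B * A, hB.mul hA, s, hs, by rw [Matrix.mulVec_smul, Matrix.mulVec_mulVec]⟩

theorem om_act_iff {v : V} {B : Mn} (hB : In K B) : Om K (B *ᵥ v) ↔ Om K v := by
  refine ⟨fun h => ?_, fun h => h.act hB⟩
  obtain ⟨C, hC, -, hCB⟩ := hB.inverse
  have := h.act hC
  rwa [Matrix.mulVec_mulVec, hCB, Matrix.one_mulVec] at this

theorem om_diag (hN : HasMono K) {v : V} (h : Om K v) (d : V) (hd : ∏ i, d i = 1) :
    Om K (fun i => d i * v i) := by
  have := h.act (In.diagonal hN d hd)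
  rwa [show Matrix.diagonal d *ᵥ v = fun i => d i * v i from
    funext fun i => Matrix.mulVec_diagonal d v i] at this

theorem om_single (hN : HasMono K) (i : Fin 3) : Om K (Pi.single i 1 : V) := by
  obtain ⟨d, hd, hm⟩ := In.scalarPerm hN (Equiv.swap 0 i)
  refine ⟨_, hm, (d 0)⁻¹, inv_ne_zero (hd 0), ?_⟩
  funext j
  rw [Pi.smul_apply, monM_mulVec, Equiv.symm_swap, smul_eq_mul]
  by_cases hj : j = i
  · subst hj
    rw [Pi.single_eq_same, Equiv.swap_apply_right, Pi.single_eq_same, mul_one, inv_mul_cancel₀ (hd 0)]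
  · rw [Pi.single_eq_of_ne hj, Pi.single_eq_of_ne, mul_zero, mul_zero]
    intro e
    exact hj ((Equiv.swap (0 : Fin 3) i).injective (by rw [e, Equiv.swap_apply_right]))

theorem third : ∀ i j : Fin 3, j ≠ i → ∃ k, k ≠ i ∧ k ≠ j := by decide

theorem two_of : ∀ i j k l : Fin 3, j ≠ i → k ≠ i → j ≠ k → l ≠ i → l = j ∨ l = k := by decide

theorem trichotomy {v : V} (hv : v ≠ 0) :
    prodc v ≠ 0 ∨ IsSide v ∨ ∃ i, ∀ j, j ≠ i → v j = 0 := by
  by_cases hp : prodc v = 0
  · right
    obtain ⟨i, hi⟩ : ∃ i, v i = 0 := by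
      rcases mul_eq_zero.1 hp with h | h
      · rcases mul_eq_zero.1 h with h | h <;> exact ⟨_, h⟩
      · exact ⟨_, h⟩
    by_cases h : ∃ j, j ≠ i ∧ v j = 0
    · obtain ⟨j, hji, hj⟩ := h
      obtain ⟨k, hki, hkj⟩ := third i j hji
      refine Or.inr ⟨k, fun l hl => ?_⟩
      have : l = i ∨ l = j := two_of k i j l hki.symm hkj.symm hji.symm hl
      rcases this with rfl | rfl <;> assumption
    · push Not at h
      exact Or.inl ⟨i, hi, h⟩
  · exact Or.inl hp

theorem prodc_side {v : V} (h : IsSide v) : prodc v = 0 := by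
  obtain ⟨i, hi, -⟩ := h
  fin_cases i <;> simp_all [prodc]

theorem om_of_ratio (hN : HasMono K) {v w : V} (h : Om K v) (hv : prodc v ≠ 0) {r : F}
    (hr : r ≠ 0) (he : prodc w = r ^ 3 * prodc v) : Om K w := by
  simp only [prodc, mul_ne_zero_iff] at hv
  obtain ⟨⟨h0, h1⟩, h2⟩ := hv
  have hd : ∏ i, (fun i => w i / (r * v i)) i = 1 := by
    rw [Fin.prod_univ_three]
    simp only [prodc] at he
    field_simp
    linear_combination he
  have := (om_diag hN h _ hd).smul hr
  convert this using 1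
  funext i
  rw [Pi.smul_apply, smul_eq_mul]
  have : v i ≠ 0 := by fin_cases i <;> assumption
  field_simp

theorem om_side_all (hN : HasMono K) {v w : V} (h : Om K v) (hv : IsSide v) (hw : IsSide w) :
    Om K w := by
  obtain ⟨i, hvi, hv'⟩ := hv
  obtain ⟨j, hwj, hw'⟩ := hw
  obtain ⟨d, hd, hm⟩ := In.scalarPerm hN (Equiv.swap i j)
  set u := monM (Equiv.swap i j) d *ᵥ v with hu
  have huval : ∀ l, u l = d (Equiv.swap i j l) * v (Equiv.swap i j l) := fun l => by
    rw [hu, monM_mulVec, Equiv.symm_swap]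
  have huj : u j = 0 := by rw [huval, Equiv.swap_apply_right, hvi, mul_zero]
  have hu' : ∀ l, l ≠ j → u l ≠ 0 := fun l hl => by
    rw [huval]
    exact mul_ne_zero (hd _) (hv' _ fun e => hl ((Equiv.swap i j).injective (by
      rw [e, Equiv.swap_apply_right])))
  let e : V := fun l => if l = j then 1 else w l / u l
  have he0 : ∀ l, e l ≠ 0 := fun l => by
    simp only [e]
    split_ifs with hl
    · exact one_ne_zero
    · exact div_ne_zero (hw' l hl) (hu' l hl)
  set P := ∏ l, e l
  have hP : P ≠ 0 := Finset.prod_ne_zero_iff.2 fun l _ => he0 l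
  let e' : V := fun l => if l = j then P⁻¹ else e l
  have he' : ∏ l, e' l = 1 := by
    rw [← Finset.mul_prod_erase _ _ (Finset.mem_univ j)]
    have : ∏ l ∈ Finset.univ.erase j, e' l = P := by
      rw [show P = e j * ∏ l ∈ Finset.univ.erase j, e l from
        (Finset.mul_prod_erase _ _ (Finset.mem_univ j)).symm, show e j = 1 from if_pos rfl, one_mul]
      exact Finset.prod_congr rfl fun l hl => if_neg (Finset.mem_erase.1 hl).1
    rw [this, show e' j = P⁻¹ from if_pos rfl, inv_mul_cancel₀ hP]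
  have := om_diag hN (h.act hm) e' he'
  convert this using 1
  funext l
  show w l = e' l * u l
  by_cases hl : l = j
  · rw [hl, huj, mul_zero, hwj]
  · simp only [e', e, if_neg hl, div_mul_cancel₀ _ (hu' l hl)]

/-- A map carrying every side point into the sides is monomial. -/
theorem mono_of_sides (hq : 5 ≤ Fintype.card F) {A : Mn} (hd : A.det ≠ 0)
    (h : ∀ w, IsSide w → prodc (A *ᵥ w) = 0) : Mono A := by
  classical
  have key : ∀ i, ∃ l, ∀ j, j ≠ i → A l j = 0 := by
    intro i
    obtain ⟨j, k, hji, hki, hjk⟩ : ∃ j k : Fin 3, j ≠ i ∧ k ≠ i ∧ j ≠ k := by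
      revert i; decide
    by_contra hn
    push Not at hn
    let root : Fin 3 → F := fun l => -(A l j) / A l k
    have hsub : (Finset.univ.erase (0 : F)) ⊆ Finset.univ.image root := fun t ht => by
      have ht0 := (Finset.mem_erase.1 ht).1
      have hw : IsSide ((Pi.single j 1 : V) + t • (Pi.single k 1 : V)) := by
        refine ⟨i, ?_, fun l hl => ?_⟩
        · simp [hji.symm, hki.symm]
        · rcases (two_of i j k l hji hki hjk hl) with rfl | rfl
          · simp [hjk]
          · simp [hjk.symm, ht0]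
      have hval : ∀ l, (A *ᵥ ((Pi.single j 1 : V) + t • (Pi.single k 1 : V))) l = A l j + t * A l k := fun l => by
        rw [Matrix.mulVec_add, Matrix.mulVec_smul, Matrix.mulVec_single_one, Matrix.mulVec_single_one]
        rfl
      obtain ⟨l, hl⟩ : ∃ l, A l j + t * A l k = 0 := by
        have := h _ hw
        simp only [prodc, hval, mul_eq_zero] at this
        rcases this with (e | e) | e <;> exact ⟨_, e⟩
      have hk : A l k ≠ 0 := fun e => by
        rw [e, mul_zero, add_zero] at hl
        obtain ⟨m, hm, hm'⟩ := hn l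
        rcases (two_of i j k m hji hki hjk hm) with rfl | rfl
        · exact hm' hl
        · exact hm' e
      refine Finset.mem_image.2 ⟨l, Finset.mem_univ _, ?_⟩
      show -(A l j) / A l k = t
      rw [div_eq_iff hk]; linear_combination -hl
    have := (Finset.card_le_card hsub).trans Finset.card_image_le
    rw [Finset.card_erase_of_mem (Finset.mem_univ _), Finset.card_univ, Finset.card_univ,
      Fintype.card_fin] at this
    omega
  choose f hf using key
  have hinj : Function.Injective f := fun a b hab => by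
    by_contra hne
    refine hd (Matrix.det_eq_zero_of_row_eq_zero (f a) fun j => ?_)
    by_cases hj : j = a
    · rw [hab]; exact hf b j (hj ▸ hne)
    · exact hf a j hj
  intro j
  refine ⟨f j, fun l hl => ?_⟩
  obtain ⟨i, rfl⟩ := (Finite.injective_iff_surjective.1 hinj) l
  exact hf i j fun e => hl (by rw [e])

/-- No member sends a coordinate point to a side point, for at least eight field elements. -/
theorem not_om_side (hq : 8 ≤ Fintype.card F) (hN : HasMono K) (hK : K ≠ ⊤) {v : V} (h : Om K v) :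
    ¬ IsSide v := by
  intro hs
  -- move the zero coordinate to the first place
  let w : V := ![0, 1, 1]
  have hw : IsSide w := ⟨0, rfl, fun j hj => by
    fin_cases j
    · exact absurd rfl hj
    · exact one_ne_zero
    · exact one_ne_zero⟩
  obtain ⟨A, hA, s, hs0, he⟩ := om_side_all hN h hs hw
  have hcol : ∀ i, w i = s * A i 0 := fun i => by
    have := congrFun he i
    rwa [Pi.smul_apply, Matrix.mulVec_single_one, smul_eq_mul] at this
  have h00 : A 0 0 = 0 := (mul_eq_zero.1 (hcol 0).symm).resolve_left hs0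
  have h10 : A 1 0 ≠ 0 := fun e => by have := hcol 1; rw [e, mul_zero] at this; exact one_ne_zero (α := F) this
  obtain ⟨a, ha, ha6⟩ := exists_pow_ne (F := F) 6 (by norm_num) (by omega)
  have hab : a⁻¹ * a⁻¹ ≠ a := fun e => ha6 (by field_simp at e; linear_combination (-(1 + a ^ 3)) * e)
  have hd : ∏ i, (![a⁻¹ * a⁻¹, a, a] : V) i = 1 := by
    rw [Fin.prod_univ_three]
    show a⁻¹ * a⁻¹ * a * a = 1
    field_simp
  obtain ⟨B, hB, hAB, hBA⟩ := hA.inverse
  set h : V := ![a⁻¹ * a⁻¹, a, a]
  set H := B * Matrix.diagonal h * A with hH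
  have hHK : In K H := (hB.mul (In.diagonal hN _ hd)).mul hA
  have hAH : ∀ i j, h i * A i j = (A * H) i j := fun i j => by
    rw [hH, ← Matrix.mul_assoc, ← Matrix.mul_assoc, hAB, Matrix.one_mul, Matrix.diagonal_mul]
  have hH0 : ∀ i, H i 0 = a * (if i = 0 then 1 else 0) := fun i => by
    have e : H *ᵥ Pi.single 0 1 = a • (Pi.single 0 1 : V) := by
      rw [hH, ← Matrix.mulVec_mulVec, ← Matrix.mulVec_mulVec,
        show Matrix.diagonal h *ᵥ (A *ᵥ Pi.single 0 1) = a • (A *ᵥ Pi.single 0 1) by
          funext i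
          rw [Matrix.mulVec_diagonal, Pi.smul_apply, smul_eq_mul, Matrix.mulVec_single_one, Matrix.col_apply]
          fin_cases i
          · simp [h00]
          · rfl
          · rfl,
        Matrix.mulVec_smul, Matrix.mulVec_mulVec, hBA, Matrix.one_mulVec]
    have := congrFun e i
    rwa [Matrix.mulVec_single_one, Matrix.col_apply, Pi.smul_apply, smul_eq_mul, Pi.single_apply] at this
  have h1 : H 1 0 = 0 := by rw [hH0]; simp
  have h2 : H 2 0 = 0 := by rw [hH0]; simp
  obtain ⟨h3, h4⟩ := fix_zero (by omega) hN hK hHK h1 h2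
  have hmono := block_mono (by omega) hN hK hHK h1 h2
  obtain ⟨j, hj⟩ := hmono 1
  by_cases hj1 : H 1 1 = 0
  · -- the trace
    have hj2 : H 2 2 = 0 := by
      by_contra h22
      obtain ⟨k, hk⟩ := hmono 2
      have hk2 : k = 2 := by_contra fun e => h22 (hk 2 (Ne.symm e))
      have h12 : H 1 2 = 0 := hk 1 (by rw [hk2]; decide)
      have := hHK.det
      rw [Matrix.det_fin_three, h1, h2, hj1, h12, h3, h4] at this
      simp at this
    have htr : Matrix.trace H = Matrix.trace (Matrix.diagonal h) := by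
      rw [hH, Matrix.trace_mul_comm, ← Matrix.mul_assoc, hAB, Matrix.one_mul]
    rw [Matrix.trace_fin_three, Matrix.trace_fin_three, hH0 0, hj1, hj2] at htr
    simp [h] at htr
    exact ha6 (by field_simp at htr; linear_combination (a ^ 3 - 1) * htr)
  · have hj' : j = 1 := by_contra fun e => hj1 (hj 1 (Ne.symm e))
    have h21 : H 2 1 = 0 := hj 2 (by rw [hj']; decide)
    have h12 : H 1 2 = 0 := fix_point (by omega) hN hK hHK 1 (fun i hi => by
      fin_cases i
      · exact h3
      · exact absurd rfl hi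
      · exact h21) 2 (by decide)
    have hAH' : ∀ j, j ≠ 0 → ∀ i, h i * A i j = A i j * H j j := fun j hj0 i => by
      rw [hAH, Matrix.mul_apply, Fin.sum_univ_three]
      fin_cases j
      · exact absurd rfl hj0
      · simp [h3, h21]
      · simp [h4, h12]
    obtain ⟨j, hj0, hA0j⟩ : ∃ j, j ≠ 0 ∧ A 0 j ≠ 0 := by
      by_contra hn
      push Not at hn
      have := hA.det
      rw [Matrix.det_eq_zero_of_row_eq_zero 0 (fun j => by
        by_cases hj : j = 0
        · rw [hj, h00]
        · exact hn j hj)] at this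
      exact zero_ne_one this
    have hHjj : H j j = a⁻¹ * a⁻¹ := by
      have := hAH' j hj0 0
      rw [show h 0 = a⁻¹ * a⁻¹ from rfl, mul_comm] at this
      exact (mul_left_cancel₀ hA0j this).symm
    have hcolj : ∀ i, i ≠ 0 → A i j = 0 := fun i hi => by
      have := hAH' j hj0 i
      rw [hHjj, show h i = a by fin_cases i <;> first | exact absurd rfl hi | rfl, mul_comm] at this
      by_contra hne
      exact hab (mul_left_cancel₀ hne this).symm
    obtain ⟨d, hd', hm⟩ := In.scalarPerm hN (Equiv.swap 0 j)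
    have hent : ∀ i, (A * monM (Equiv.swap 0 j) d) i 0 = A i j * d 0 := fun i => by
      rw [Matrix.mul_apply, Finset.sum_eq_single j (fun m _ hm => by
        rw [monM_apply, if_neg (by rwa [Equiv.swap_apply_left]), mul_zero])
        (fun h => absurd (Finset.mem_univ _) h), monM_apply, if_pos (Equiv.swap_apply_left 0 j).symm]
    have hm' := block_mono (by omega) hN hK (hA.mul hm) (by rw [hent, hcolj 1 (by decide), zero_mul])
      (by rw [hent, hcolj 2 (by decide), zero_mul])
    obtain ⟨k, hk⟩ := hm' j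
    have hent' : ∀ i, (A * monM (Equiv.swap 0 j) d) i j = A i 0 * d j := fun i => by
      rw [Matrix.mul_apply, Finset.sum_eq_single 0 (fun m _ hm => by
        rw [monM_apply, if_neg (by rwa [Equiv.swap_apply_right]), mul_zero])
        (fun h => absurd (Finset.mem_univ _) h), monM_apply, if_pos (Equiv.swap_apply_right 0 j).symm]
    have h20 : A 2 0 ≠ 0 := fun e => by
      have := hcol 2; rw [e, mul_zero] at this; exact one_ne_zero (α := F) this
    have k1 : k = 1 := by_contra fun e => by
      have := hk 1 (Ne.symm e)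
      rw [hent'] at this
      exact mul_ne_zero h10 (hd' j) this
    have := hk 2 (by rw [k1]; decide)
    rw [hent'] at this
    exact mul_ne_zero h20 (hd' j) this

/-- The orbit cannot be everything. -/
theorem not_om_all (hq : 5 ≤ Fintype.card F) (hN : HasMono K) (hK : K ≠ ⊤) :
    ¬ ∀ v : V, v ≠ 0 → Om K v := by
  intro hall
  obtain ⟨a, ha, ha3⟩ := exists_pow_ne (F := F) 3 (by norm_num) (by omega)
  set b := a⁻¹ * a⁻¹ with hb
  have hab : a ≠ b := fun e => ha3 (by rw [hb] at e; field_simp at e; linear_combination e)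
  let e0 : V := Pi.single 0 1
  have hbase : Cen K e0 e0 := by
    obtain ⟨g, hg, hge⟩ := In.diagonal hN (![b, a, a] : V) (by
      rw [Fin.prod_univ_three]
      show b * a * a = 1
      rw [hb]; field_simp)
    refine ⟨by simp [e0], g, hg, a, b, hab, ?_, fun x hx => ?_⟩
    · rw [hge]
      funext i
      rw [Matrix.mulVec_diagonal]
      fin_cases i <;> simp [e0]
    · have hx0 : x 0 = 0 := by simpa [e0] using hx
      rw [hge]
      funext i
      rw [Matrix.mulVec_diagonal]
      fin_cases i <;> simp [hx0]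
  refine no_polarity (M := K) (fun v hv => ?_) ?_
  · obtain ⟨A, ⟨g, hg, rfl⟩, s, hs, rfl⟩ := hall v hv
    exact ⟨_, (hbase.conj hg).smul hs⟩
  intro c φ φ' hC hC'
  obtain ⟨A, ⟨g, hg, rfl⟩, s, hs, hc⟩ := hall c hC.ne_zero
  have key : ∀ ψ, Cen K c ψ → ∀ x, ψ ⬝ᵥ x = 0 ↔ ((g⁻¹).1 *ᵥ x) 0 = 0 := by
    intro ψ hψ x
    have h0 := (hψ.conj (inv_mem hg)).smul (inv_ne_zero hs)
    rw [inv_inv, hc, Matrix.mulVec_smul, smul_smul, inv_mul_cancel₀ hs, one_smul, Matrix.mulVec_mulVec,
      val_inv_mul', Matrix.one_mulVec] at h0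
    obtain ⟨hd, k, hk, a, b, hab, hkc, hkx⟩ := h0
    have hk10 : ∀ i, i ≠ 0 → k.1 i 0 = 0 := fun i hi => by
      have := congrFun hkc i
      rw [Matrix.mulVec_single_one, Matrix.col_apply, Pi.smul_apply, Pi.single_eq_of_ne hi, smul_zero] at this
      exact this
    obtain ⟨h01, h02⟩ := fix_zero hq hN hK ⟨k, hk, rfl⟩ (hk10 1 (by decide)) (hk10 2 (by decide))
    have h00 : k.1 0 0 = b := by
      have := congrFun hkc 0
      rwa [Matrix.mulVec_single_one, Matrix.col_apply, Pi.smul_apply, Pi.single_eq_same, smul_eq_mul,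
        mul_one] at this
    have hsub : ∀ y, (ψ ᵥ* g.1) ⬝ᵥ y = 0 → y 0 = 0 := fun y hy => by
      have := congrFun (hkx y hy) 0
      rw [Matrix.mulVec, dotProduct, Fin.sum_univ_three, h00, h01, h02, zero_mul, zero_mul, add_zero,
        add_zero, Pi.smul_apply, smul_eq_mul] at this
      by_contra hy0
      exact hab (mul_right_cancel₀ hy0 this).symm
    set y := (g⁻¹).1 *ᵥ x with hy
    have e : (ψ ᵥ* g.1) ⬝ᵥ y = ψ ⬝ᵥ x := by
      rw [hy, ← dotProduct_mulVec, Matrix.mulVec_mulVec, val_mul_inv', Matrix.one_mulVec]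
    refine ⟨fun h => hsub y (e.trans h), fun h => ?_⟩
    have hz := hsub (y - ((ψ ᵥ* g.1) ⬝ᵥ y / (ψ ᵥ* g.1) ⬝ᵥ (Pi.single 0 1)) • Pi.single 0 1) (by
      rw [dotProduct_sub, dotProduct_smul, smul_eq_mul, div_mul_cancel₀ _ hd, sub_self])
    rw [Pi.sub_apply, Pi.smul_apply, h, Pi.single_eq_same, smul_eq_mul, mul_one, zero_sub,
      neg_eq_zero, div_eq_zero_iff] at hz
    exact e ▸ hz.resolve_right hd
  intro x
  rw [key φ hC, key φ' hC']

end CfsgLib.MaxSub.SLThree.Decomp
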