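/-
Seven field elements: the orbit sizes do not divide the order.
-/
import Cfsg.Agent.Lib.MaxSub.SLThree.Decomp.Orbit

set_option autoImplicit false
set_option maxHeartbeats 800000
set_option linter.unusedSectionVars false

namespace CfsgLib.MaxSub.SLThree.Decomp

open Matrix CfsgLib.MaxSub.Monomial

variable {F : Type*} [Field F] [Fintype F] {K : Subgroup (Matrix.SpecialLinearGroup (Fin 3) F)}

local notation "Mn" => Matrix (Fin 3) (Fin 3) F
local notation "V" => Fin 3 → F
local notation "SL" => Matrix.SpecialLinearGroup (Fin 3) F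

theorem card_om (hN : HasMono K) :
    Nat.card {v : V // Om K v} =
      ((lineStab K (Pi.single 0 1)).subgroupOf K).index * (Fintype.card F - 1) := by
  set e0 : V := Pi.single 0 1 with he0
  set H := lineStab K e0 with hH
  rw [Subgroup.index, ← Nat.card_eq_fintype_card (α := F), ← Nat.card_units, ← Nat.card_prod]
  refine (Nat.card_eq_of_bijective
    (fun x : (↥K ⧸ H.subgroupOf K) × Fˣ => (⟨(x.2 : F) • (x.1.out.1.1 *ᵥ e0),
      x.1.out.1.1, ⟨x.1.out.1, x.1.out.2, rfl⟩, (x.2 : F), x.2.ne_zero, rfl⟩ : {v : V // Om K v}))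
    ⟨?_, ?_⟩).symm
  · rintro ⟨x, s⟩ ⟨y, t⟩ he
    have he' : (s : F) • (x.out.1.1 *ᵥ e0) = (t : F) • (y.out.1.1 *ᵥ e0) := congrArg Subtype.val he
    have hxy : x = y := by
      rw [← QuotientGroup.out_eq' x, ← QuotientGroup.out_eq' y, QuotientGroup.eq]
      refine Subgroup.mem_subgroupOf.2 ⟨(x.out⁻¹ * y.out).2, (s : F) * (t : F)⁻¹, ?_⟩
      show ((x.out.1⁻¹).1 * y.out.1.1) *ᵥ e0 = _
      rw [← Matrix.mulVec_mulVec, show y.out.1.1 *ᵥ e0 = ((s : F) * (t : F)⁻¹) • (x.out.1.1 *ᵥ e0) by
        rw [mul_comm, mul_smul, he', smul_smul, inv_mul_cancel₀ t.ne_zero, one_smul],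
        Matrix.mulVec_smul, Matrix.mulVec_mulVec, val_inv_mul', Matrix.one_mulVec]
    subst hxy
    refine Prod.ext rfl (Units.ext ?_)
    have h0 : x.out.1.1 *ᵥ e0 ≠ 0 := fun h0 => by
      have h2 := In.cancel (K := K) ⟨x.out.1, x.out.2, rfl⟩ h0
      simpa [he0] using congrFun h2 0
    exact smul_left_injective F h0 he'
  · rintro ⟨v, A, ⟨g, hg, rfl⟩, s, hs, rfl⟩
    set y := (QuotientGroup.mk (⟨g, hg⟩ : K) : ↥K ⧸ H.subgroupOf K)
    obtain ⟨-, r, hr⟩ := Subgroup.mem_subgroupOf.1 (QuotientGroup.eq.1 (QuotientGroup.out_eq' y))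
    change ((y.out.1⁻¹).1 * g.1) *ᵥ e0 = r • e0 at hr
    have hge : g.1 *ᵥ e0 = r • (y.out.1.1 *ᵥ e0) := by
      rw [← Matrix.mulVec_smul, ← hr, Matrix.mulVec_mulVec, ← Matrix.mul_assoc, val_mul_inv', Matrix.one_mul]
    have hr0 : r ≠ 0 := fun h => by
      rw [h, zero_smul] at hge
      have h2 := In.cancel (K := K) ⟨g, hg, rfl⟩ hge
      simpa [he0] using congrFun h2 0
    refine ⟨(y, Units.mk0 (s * r) (mul_ne_zero hs hr0)), Subtype.ext ?_⟩
    show (s * r) • (y.out.1.1 *ᵥ e0) = s • (g.1 *ᵥ e0)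
    rw [hge, smul_smul]

/-- For seven elements the orbit cannot contain some but not all general points. -/
theorem false_seven (hq : Fintype.card F = 7) (hN : HasMono K) {v w : V} (hv : prodc v ≠ 0)
    (hvo : Om K v) (hw : prodc w ≠ 0) (hwo : ¬ Om K w) : False := by
  classical
  set S : Finset F := Finset.univ.filter fun x => x ≠ 0 ∧ Om K ![x, 1, 1] with hS
  have hiff : ∀ u : V, prodc u ≠ 0 → (Om K u ↔ prodc u ∈ S) := fun u hu => by
    have hp : prodc (![prodc u, 1, 1] : V) = prodc u := by simp [prodc]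
    rw [hS, Finset.mem_filter]
    refine ⟨fun h => ⟨Finset.mem_univ _, hu, om_of_ratio hN h hu one_ne_zero (by rw [hp]; ring)⟩,
      fun h => om_of_ratio hN h.2.2 (by rw [hp]; exact hu) one_ne_zero (by rw [hp]; ring)⟩
  have hS0 : ∀ x ∈ S, x ≠ 0 := fun x hx => (Finset.mem_filter.1 hx).2.1
  have hpos : 0 < S.card := Finset.card_pos.2 ⟨_, (hiff v hv).1 hvo⟩
  have hlt : S.card < 6 := by
    have hsub : S ⊆ (Finset.univ.erase (0 : F)).erase (prodc w) := fun x hx =>
      Finset.mem_erase.2 ⟨fun e => hwo ((hiff w hw).2 (e ▸ hx)),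
        Finset.mem_erase.2 ⟨hS0 x hx, Finset.mem_univ _⟩⟩
    have := Finset.card_le_card hsub
    rw [Finset.card_erase_of_mem (Finset.mem_erase.2 ⟨hw, Finset.mem_univ _⟩),
      Finset.card_erase_of_mem (Finset.mem_univ _), Finset.card_univ, hq] at this
    omega
  have h2 : (2 : F) ≠ 0 := fun h => by
    have : CharP F 2 := CharTwo.of_one_ne_zero_of_two_eq_zero one_ne_zero h
    have h7 := FiniteField.even_card_of_char_two ((ringChar.eq_iff).2 this)
    omega
  have heven : Even S.card := by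
    rw [← CharP.cast_eq_zero_iff (ZMod 2) 2 S.card |>.trans even_iff_two_dvd.symm]
    rw [Finset.card_eq_sum_ones, Nat.cast_sum]
    refine Finset.sum_involution (fun x _ => -x) (fun x _ => ?_) (fun x hx _ e => ?_) (fun x hx => ?_)
      (fun x _ => neg_neg x)
    · rw [Nat.cast_one]; exact CharTwo.add_self_eq_zero _
    · refine hS0 x hx ((mul_eq_zero.1 (show (2 : F) * x = 0 by linear_combination -e)).resolve_left h2)
    · have hne : prodc (![x, 1, 1] : V) ≠ 0 := by simpa [prodc] using hS0 x hx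
      rw [hS, Finset.mem_filter]
      refine ⟨Finset.mem_univ _, neg_ne_zero.2 (hS0 x hx), ?_⟩
      refine om_of_ratio hN (Finset.mem_filter.1 hx).2.2 hne (r := -1) (neg_ne_zero.2 one_ne_zero) ?_
      simp [prodc]
      ring
  -- counting
  set n := S.card
  have hbig : Nat.card {u : V // Om K u ∧ prodc u ≠ 0} = 36 * n := by
    have : Nat.card (Fˣ × Fˣ × ↥S) = 36 * n := by
      rw [Nat.card_prod, Nat.card_prod, Nat.card_units, Nat.card_eq_fintype_card (α := F), hq,
        Nat.card_eq_finsetCard]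
      ring
    rw [← this]
    refine (Nat.card_eq_of_bijective (fun p : Fˣ × Fˣ × ↥S =>
      (⟨![(p.1 : F), (p.2.1 : F), (p.2.2 : F) / ((p.1 : F) * (p.2.1 : F))], ?_⟩ :
        {u : V // Om K u ∧ prodc u ≠ 0})) ⟨?_, ?_⟩).symm
    · have e : prodc (![(p.1 : F), (p.2.1 : F), (p.2.2 : F) / ((p.1 : F) * (p.2.1 : F))] : V) = p.2.2 := by
        show (p.1 : F) * (p.2.1 : F) * ((p.2.2 : F) / ((p.1 : F) * (p.2.1 : F))) = _
        rw [mul_div_cancel₀ _ (mul_ne_zero p.1.ne_zero p.2.1.ne_zero)]
      have hne := hS0 _ p.2.2.2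
      exact ⟨(hiff _ (by rwa [e])).2 (by rw [e]; exact p.2.2.2), by rwa [e]⟩
    · rintro ⟨a, b, c⟩ ⟨a', b', c'⟩ he
      have he' := congrArg Subtype.val he
      have ha : a = a' := Units.ext (congrFun he' 0)
      have hb : b = b' := Units.ext (congrFun he' 1)
      subst ha hb
      have h := congrFun he' 2
      have hc : (c : F) = (c' : F) :=
        (div_left_inj' (mul_ne_zero a.ne_zero b.ne_zero)).1 h
      rw [Subtype.ext hc]
    · rintro ⟨u, hu, hup⟩
      have h3 : (u 0 ≠ 0 ∧ u 1 ≠ 0) ∧ u 2 ≠ 0 := by simpa [prodc, mul_ne_zero_iff] using hup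
      refine ⟨(Units.mk0 _ h3.1.1, Units.mk0 _ h3.1.2, ⟨prodc u, (hiff u hup).1 hu⟩), Subtype.ext ?_⟩
      funext i
      fin_cases i
      · rfl
      · rfl
      · show prodc u / (u 0 * u 1) = u 2
        rw [prodc, mul_div_cancel_left₀ _ (mul_ne_zero h3.1.1 h3.1.2)]
  have hzero : Nat.card {u : V // u ≠ 0 ∧ prodc u = 0} = 126 := by
    have e1 : Nat.card {u : V // prodc u ≠ 0} = 216 := by
      rw [show (216 : ℕ) = Nat.card (Fˣ × Fˣ × Fˣ) by
        rw [Nat.card_prod, Nat.card_prod, Nat.card_units, Nat.card_eq_fintype_card (α := F), hq]]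
      refine (Nat.card_eq_of_bijective (fun p : Fˣ × Fˣ × Fˣ =>
        (⟨![(p.1 : F), (p.2.1 : F), (p.2.2 : F)], by simp [prodc]⟩ : {u : V // prodc u ≠ 0})) ⟨?_, ?_⟩).symm
      · rintro ⟨a, b, c⟩ ⟨a', b', c'⟩ he
        have he' := congrArg Subtype.val he
        exact Prod.ext (Units.ext (congrFun he' 0)) (Prod.ext (Units.ext (congrFun he' 1)) (Units.ext (congrFun he' 2)))
      · rintro ⟨u, hup⟩
        have h3 : (u 0 ≠ 0 ∧ u 1 ≠ 0) ∧ u 2 ≠ 0 := by simpa [prodc, mul_ne_zero_iff] using hup
        refine ⟨(Units.mk0 _ h3.1.1, Units.mk0 _ h3.1.2, Units.mk0 _ h3.2), Subtype.ext ?_⟩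
        funext i; fin_cases i <;> rfl
    have h := Fintype.card_subtype_compl (fun u : V => prodc u ≠ 0 ∨ u = 0)
    have h' : Fintype.card {u : V // prodc u ≠ 0 ∨ u = 0} = 217 := by
      rw [Fintype.card_subtype_or_disjoint _ _ (fun p h1 h2 x hx => (h1 x hx) (by rw [h2 x hx]; simp [prodc])),
        Fintype.card_subtype_eq, ← Nat.card_eq_fintype_card, e1]
    rw [h', Fintype.card_fun, Fintype.card_fin, hq] at h
    rw [Nat.card_eq_fintype_card]
    refine ((Fintype.card_congr (Equiv.subtypeEquivRight fun u => ?_)).trans h).trans (by norm_num)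
    tauto
  have hframe : Nat.card {u : V // ∃ i, u i ≠ 0 ∧ ∀ j, j ≠ i → u j = 0} = 18 := by
    rw [show (18 : ℕ) = Nat.card (Fin 3 × Fˣ) by
      rw [Nat.card_prod, Nat.card_units, Nat.card_eq_fintype_card (α := F), hq, Nat.card_eq_fintype_card,
        Fintype.card_fin]]
    refine (Nat.card_eq_of_bijective (fun p : Fin 3 × Fˣ =>
      (⟨Pi.single p.1 (p.2 : F), p.1, by simp, fun j hj => Pi.single_eq_of_ne hj _⟩ :
        {u : V // ∃ i, u i ≠ 0 ∧ ∀ j, j ≠ i → u j = 0})) ⟨?_, ?_⟩).symm
    · rintro ⟨i, a⟩ ⟨j, b⟩ he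
      have he' := congrArg Subtype.val he
      have hij : i = j := by
        by_contra hne
        have := congrFun he' i
        simp [Pi.single_eq_of_ne hne] at this
      subst hij
      exact Prod.ext rfl (Units.ext (Pi.single_injective i he'))
    · rintro ⟨u, i, hi, hu⟩
      refine ⟨(i, Units.mk0 _ hi), Subtype.ext ?_⟩
      funext j
      by_cases hj : j = i
      · subst hj; simp
      · simp [Pi.single_eq_of_ne hj, hu j hj]
  have htot : Nat.card {u : V // Om K u} =
      Nat.card {u : V // Om K u ∧ prodc u ≠ 0} + Nat.card {u : V // Om K u ∧ prodc u = 0} := by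
    rw [← Nat.card_sum]
    exact Nat.card_congr
      { toFun := fun u => if h : prodc u.1 = 0 then Sum.inr ⟨u.1, u.2, h⟩ else Sum.inl ⟨u.1, u.2, h⟩
        invFun := fun u => u.elim (fun u => ⟨u.1, u.2.1⟩) (fun u => ⟨u.1, u.2.1⟩)
        left_inv := fun u => by by_cases h : prodc u.1 = 0 <;> simp [h]
        right_inv := fun u => by
          rcases u with u | u
          · simp [u.2.2]
          · simp [u.2.2] }
  have hside : Nat.card {u : V // Om K u ∧ prodc u = 0} = 18 ∨
      Nat.card {u : V // Om K u ∧ prodc u = 0} = 126 := by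
    by_cases hs : ∃ u, Om K u ∧ IsSide u
    · right
      obtain ⟨u₀, hu₀, hu₀'⟩ := hs
      rw [← hzero]
      refine Nat.card_congr (Equiv.subtypeEquivRight fun u => ⟨fun h => ⟨h.1.ne_zero, h.2⟩, fun h => ⟨?_, h.2⟩⟩)
      rcases trichotomy h.1 with h' | h' | ⟨i, hi⟩
      · exact absurd h.2 h'
      · exact om_side_all hN hu₀ hu₀' h'
      · have hui : u i ≠ 0 := fun e => h.1 (funext fun j => by
          by_cases hj : j = i
          · rw [hj, e]; rfl
          · exact hi j hj)
        have := (om_single (K := K) hN i).smul hui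
        convert this using 1
        funext j
        by_cases hj : j = i
        · subst hj; simp
        · simp [hi j hj, hj]
    · left
      push Not at hs
      rw [← hframe]
      refine Nat.card_congr (Equiv.subtypeEquivRight fun u => ⟨fun h => ?_, fun h => ?_⟩)
      · rcases trichotomy h.1.ne_zero with h' | h' | ⟨i, hi⟩
        · exact absurd h.2 h'
        · exact absurd h' (hs u h.1)
        · exact ⟨i, fun e => h.1.ne_zero (funext fun j => by
            by_cases hj : j = i
            · rw [hj, e]; rfl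
            · exact hi j hj), hi⟩
      · obtain ⟨i, hui, hi⟩ := h
        refine ⟨?_, ?_⟩
        · have := (om_single (K := K) hN i).smul hui
          convert this using 1
          funext j
          by_cases hj : j = i
          · subst hj; simp
          · simp [hi j hj, hj]
        · fin_cases i
          · simp [prodc, hi 1 (by decide)]
          · simp [prodc, hi 0 (by decide)]
          · simp [prodc, hi 0 (by decide)]
  have hN' := card_om (K := K) hN
  set P := ((lineStab K (Pi.single 0 1)).subgroupOf K).index with hP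
  rw [hq, htot, hbig] at hN'
  -- the index times three divides the order
  have hdvd : P * 3 ∣ 5630688 := by
    have h1 := ((lineStab K (Pi.single 0 1)).subgroupOf K).card_mul_index
    have h3 : 3 ∣ Nat.card ↥((lineStab K (Pi.single 0 1)).subgroupOf K) := by
      rw [Nat.card_congr (Subgroup.subgroupOfEquivOfLe (show lineStab K (Pi.single 0 1) ≤ K from fun x hx => hx.1)).toEquiv]
      have hle : Subgroup.center SL ≤ lineStab K (Pi.single 0 1) := fun x hx => by
        obtain ⟨r, -, hr⟩ := Matrix.SpecialLinearGroup.mem_center_iff.1 hx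
        refine ⟨hN x (fun j => ⟨j, fun i hi => ?_⟩), r, ?_⟩
        · rw [← hr, Matrix.scalar_apply, Matrix.diagonal_apply_ne _ hi]
        · rw [← hr, Matrix.scalar_apply]
          funext i
          rw [Matrix.mulVec_diagonal, Pi.smul_apply, smul_eq_mul]
      have := Subgroup.card_dvd_of_le hle
      rwa [CfsgLib.SLCard.card_SL_center (by norm_num), hq] at this
    have h2 := K.card_subgroup_dvd_card
    rw [card_SL_three, hq, ← h1, ← hP] at h2
    exact (mul_comm P 3 ▸ Nat.mul_dvd_mul_right h3 P).trans (h2.trans (by norm_num))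
  obtain ⟨k, hk⟩ := heven
  rcases hside with e | e <;> rw [e] at hN'
  · have : P = 15 ∨ P = 27 := by omega
    rcases this with e | e <;> rw [e] at hdvd <;> norm_num at hdvd
  · have : P = 33 ∨ P = 45 := by omega
    rcases this with e | e <;> rw [e] at hdvd <;> norm_num at hdvd

end CfsgLib.MaxSub.SLThree.Decomp
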