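/-
Stabilisers of decompositions into three lines are maximal in `SL_3`.
-/
import Cfsg.Agent.Lib.MaxSub.SLThree.Decomp.Seven
import Cfsg.Agent.Lib.MaxSub.SLThree.Decomp.Mobius
import Cfsg.Agent.Lib.MaxSub.DecompTools
import Cfsg.Agent.Lib.Aschbacher.Proper

set_option autoImplicit false
set_option maxHeartbeats 800000
set_option linter.unusedSectionVars false

namespace CfsgLib.MaxSub.SLThree.Decomp

open Matrix Module Cfsg Cfsg.Geo CfsgLib.MaxSub.Monomial

variable {F : Type*} [Field F] [Fintype F] {K : Subgroup (Matrix.SpecialLinearGroup (Fin 3) F)}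

local notation "Mn" => Matrix (Fin 3) (Fin 3) F
local notation "V" => Fin 3 → F
local notation "SL" => Matrix.SpecialLinearGroup (Fin 3) F

/-- The three cube classes. -/
theorem cube_classes (h3 : Fintype.card F % 3 = 1) :
    ∃ μ : Finset F, μ.card = (Fintype.card F - 1) / 3 ∧
      (∀ z, z ∈ μ ↔ z ^ ((Fintype.card F - 1) / 3) = 1) ∧ (∀ z ∈ μ, ∃ r, r ≠ 0 ∧ z = r ^ 3) ∧
      ∀ z : F, z ≠ 0 → (z ^ ((Fintype.card F - 1) / 3)) ^ 3 = 1 := by
  classical
  set q := Fintype.card F with hq
  set e := (q - 1) / 3 with he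
  have hq2 : 1 < q := Fintype.one_lt_card
  have he3 : 3 * e = q - 1 := by omega
  have he0 : 0 < e := by omega
  refine ⟨Finset.univ.filter fun z => z ^ e = 1, ?_, fun z => by simp, fun z hz => ?_, fun z hz => ?_⟩
  · have h := IsCyclic.card_powMonoidHom_ker (G := Fˣ) e
    rw [Nat.card_units, Nat.card_eq_fintype_card (α := F), ← hq,
      Nat.gcd_eq_right (⟨3, by omega⟩ : e ∣ q - 1)] at h
    rw [← Fintype.card_coe, ← Nat.card_eq_fintype_card]
    refine Eq.trans ?_ h
    refine Nat.card_eq_of_bijective (fun z => ⟨Units.mk0 z.1 (fun h0 => ?_), MonoidHom.mem_ker.2 (Units.ext ?_)⟩)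
      ⟨fun a b hab => Subtype.ext (congrArg (fun u => ((u : Fˣ) : F)) (congrArg Subtype.val hab)), fun u => ?_⟩
    · have := (Finset.mem_filter.1 z.2).2
      rw [h0, zero_pow he0.ne'] at this
      exact zero_ne_one this
    · exact (Finset.mem_filter.1 z.2).2
    · refine ⟨⟨(u.1 : F), Finset.mem_filter.2 ⟨Finset.mem_univ _, ?_⟩⟩, Subtype.ext (Units.ext rfl)⟩
      have := congrArg Units.val (MonoidHom.mem_ker.1 u.2)
      simpa using this
  · have hz0 : z ≠ 0 := fun h => by
      have := (Finset.mem_filter.1 hz).2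
      rw [h, zero_pow he0.ne'] at this
      exact zero_ne_one this
    have hle : (powMonoidHom 3 : Fˣ →* Fˣ).range = (powMonoidHom e : Fˣ →* Fˣ).ker := by
      refine Subgroup.eq_of_le_of_card_ge ?_ ?_
      · rintro _ ⟨u, rfl⟩
        rw [MonoidHom.mem_ker]
        show (u ^ 3) ^ e = 1
        rw [← pow_mul, he3]
        exact orderOf_dvd_iff_pow_eq_one.1 (by
          have := orderOf_dvd_natCard u
          rwa [Nat.card_units, Nat.card_eq_fintype_card] at this)
      · have h1 := IsCyclic.card_powMonoidHom_ker (G := Fˣ) e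
        have h2 := (powMonoidHom 3 : Fˣ →* Fˣ).ker.card_mul_index
        rw [Subgroup.index_ker, IsCyclic.card_powMonoidHom_ker, Nat.card_units,
          Nat.card_eq_fintype_card (α := F), ← hq, Nat.gcd_eq_right (⟨e, he3.symm⟩ : 3 ∣ q - 1)] at h2
        rw [h1, Nat.card_units, Nat.card_eq_fintype_card (α := F), ← hq,
          Nat.gcd_eq_right (⟨3, by omega⟩ : e ∣ q - 1)]
        omega
    obtain ⟨u, hu⟩ : Units.mk0 z hz0 ∈ (powMonoidHom 3 : Fˣ →* Fˣ).range := by
      rw [hle, MonoidHom.mem_ker]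
      exact Units.ext (by simpa using (Finset.mem_filter.1 hz).2)
    exact ⟨(u : F), u.ne_zero, by simpa using (congrArg Units.val hu).symm⟩
  · rw [← pow_mul, mul_comm, he3]
    exact FiniteField.pow_card_sub_one_eq_one z hz

theorem frame_eq {u : V} {i : Fin 3} (h : ∀ j, j ≠ i → u j = 0) : u = u i • (Pi.single i 1 : V) := by
  funext j
  by_cases hj : j = i
  · subst hj; simp
  · simp [h j hj, hj]

/-- An overgroup of the monomial group other than it is everything. -/
theorem top_of_not_mono_three (hq : 5 ≤ Fintype.card F) (hN : HasMono K) {g₀ : Mn}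
    (hg₀ : In K g₀) (hm₀ : ¬ Mono g₀) : K = ⊤ := by
  classical
  by_contra hK
  set q := Fintype.card F with hqdef
  have hd0 : ∀ {A : Mn}, In K A → A.det ≠ 0 := fun hA => by rw [hA.det]; exact one_ne_zero
  -- frame points
  have hfr : ∀ u : V, u ≠ 0 → prodc u = 0 → ¬ IsSide u → Om K u := fun u hu hp hs => by
    rcases trichotomy hu with h | h | ⟨i, hi⟩
    · exact absurd hp h
    · exact absurd h hs
    · rw [frame_eq hi]
      exact (om_single hN i).smul fun e => hu (by rw [frame_eq hi, e, zero_smul])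
  by_cases hall : ∀ u : V, prodc u ≠ 0 → Om K u
  · by_cases hside : ∃ u, Om K u ∧ IsSide u
    · obtain ⟨u₀, hu₀, hu₀'⟩ := hside
      refine not_om_all hq hN hK fun u hu => ?_
      by_cases hp : prodc u = 0
      · by_cases hs : IsSide u
        · exact om_side_all hN hu₀ hu₀' hs
        · exact hfr u hu hp hs
      · exact hall u hp
    · push Not at hside
      refine hm₀ (mono_of_sides hq (hd0 hg₀) fun w hw => ?_)
      by_contra hne
      exact hside w ((om_act_iff hg₀).1 (hall _ hne)) hw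
  push Not at hall
  obtain ⟨w, hw, hwo⟩ := hall
  by_cases hnone : ∀ u : V, Om K u → prodc u = 0
  · by_cases hside : ∃ u, Om K u ∧ IsSide u
    · obtain ⟨u₀, hu₀, hu₀'⟩ := hside
      exact hm₀ (mono_of_sides hq (hd0 hg₀) fun u hu =>
        hnone _ ((om_side_all hN hu₀ hu₀' hu).act hg₀))
    · push Not at hside
      refine hm₀ fun j => ?_
      have ho := (om_single (K := K) hN j).act hg₀
      rcases trichotomy ho.ne_zero with h | h | ⟨i, hi⟩
      · exact absurd (hnone _ ho) h
      · exact absurd h (hside _ ho)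
      · exact ⟨i, fun k hk => by simpa [Matrix.mulVec_single_one] using hi k hk⟩
  push Not at hnone
  obtain ⟨v, hvo, hv⟩ := hnone
  -- some but not all general points
  by_cases hq7 : q = 7
  · exact false_seven hq7 hN hv hvo hw hwo
  have h3 : q % 3 = 1 := by
    by_contra h3
    have hcop : Nat.Coprime (Nat.card Fˣ) 3 := by
      rw [Nat.card_units, Nat.card_eq_fintype_card, ← hqdef]
      exact ((Nat.Prime.coprime_iff_not_dvd (by norm_num)).2 (by omega) : Nat.Coprime 3 (q - 1)).symm
    refine hwo (om_of_ratio hN hvo hv (r := (((powCoprime hcop).symm (Units.mk0 (prodc w / prodc v) (div_ne_zero hw hv)) : Fˣ) : F)) (Units.ne_zero _) ?_)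
    have := congrArg Units.val ((powCoprime hcop).apply_symm_apply (Units.mk0 (prodc w / prodc v) (div_ne_zero hw hv)))
    rw [powCoprime_apply, Units.val_pow_eq_pow_val, Units.val_mk0] at this
    rw [this, div_mul_cancel₀ _ hv]
  have h10 : q ≠ 10 := card_ne_ten
  have hq13 : 13 ≤ q := by omega
  have hq8 : 8 ≤ q := by omega
  have hnoside : ∀ u, Om K u → ¬ IsSide u := fun u hu => not_om_side hq8 hN hK hu
  obtain ⟨μ, hμc, hμ, hμcube, hroots⟩ := cube_classes (F := F) h3
  set e := (q - 1) / 3 with hedef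
  have he4 : 4 ≤ e := by omega
  have he0 : e ≠ 0 := by omega
  have hFe : 3 * (e : F) + 1 = 0 := by
    have : ((3 * e + 1 : ℕ) : F) = 0 := by
      rw [show 3 * e + 1 = q by omega, hqdef, FiniteField.cast_card_eq_zero]
    exact_mod_cast this
  have heven : (2 : F) = 0 → e % 8 = 5 := fun h2 => by
    obtain ⟨p, hp⟩ := CharP.exists F
    obtain ⟨n, hpr, hn⟩ := FiniteField.card F p
    have hp2 : p = 2 := (Nat.prime_dvd_prime_iff_eq hpr Nat.prime_two).1
      ((CharP.cast_eq_zero_iff F p 2).1 (by exact_mod_cast h2))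
    subst hp2
    rw [← hqdef] at hn
    have : 8 ∣ q := by
      rw [hn]
      refine pow_dvd_pow 2 (m := 3) ?_
      by_contra h
      have : (2 : ℕ) ^ (n : ℕ) ≤ 2 ^ 2 := Nat.pow_le_pow_right (by norm_num) (by omega)
      omega
    omega
  have hclass : ∀ s t : F, s ≠ 0 → t ≠ 0 → s ^ e = t ^ e → ∃ r, r ≠ 0 ∧ t = r ^ 3 * s := by
    intro s t hs ht h
    obtain ⟨r, hr0, hr⟩ := hμcube (t / s) ((hμ _).2 (by rw [div_pow, h, div_self (pow_ne_zero _ ht)]))
    exact ⟨r, hr0, by rw [← hr, div_mul_cancel₀ _ hs]⟩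
  -- the points of the line `x 1 = x 2`
  have hbig : ∀ u : V, prodc u ≠ 0 → (Om K u ↔ Om K ![prodc u, 1, 1]) := fun u hu => by
    have hp : prodc (![prodc u, 1, 1] : V) = prodc u := by simp [prodc]
    exact ⟨fun h => om_of_ratio hN h hu one_ne_zero (by rw [hp]; ring),
      fun h => om_of_ratio hN h (by rwa [hp]) one_ne_zero (by rw [hp]; ring)⟩
  have hOmS : ∀ s t : F, s ≠ 0 → t ≠ 0 → s ^ e = t ^ e → Om K ![s, 1, 1] → Om K ![t, 1, 1] := by
    intro s t hs ht h hs'
    obtain ⟨r, hr0, hr⟩ := hclass s t hs ht h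
    exact om_of_ratio hN hs' (by simpa [prodc] using hs) hr0 (by simp [prodc, hr])
  set s0 := prodc v
  have hs0 : Om K ![s0, 1, 1] := (hbig v hv).1 hvo
  -- an element moving the first point along the line
  obtain ⟨A, hA, t, ht, hAe⟩ := hs0
  have hcol : ∀ i, (![s0, 1, 1] : V) i = t * A i 0 := fun i => by
    have := congrFun hAe i
    rwa [Pi.smul_apply, Matrix.mulVec_single_one, smul_eq_mul] at this
  have hA10 : A 1 0 ≠ 0 := fun h => by
    have := hcol 1; rw [h, mul_zero] at this; exact one_ne_zero (α := F) this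
  have hA20 : A 2 0 = A 1 0 := mul_left_cancel₀ ht ((hcol 2).symm.trans (show (1 : F) = t * A 1 0 from hcol 1))
  obtain ⟨B, hB, hAB, hBA⟩ := hA.inverse
  set e0 : V := Pi.single 0 1 with he0d
  set u : V := B *ᵥ e0 with hu
  have hAu : A *ᵥ u = e0 := by rw [hu, Matrix.mulVec_mulVec, hAB, Matrix.one_mulVec]
  have hu0 : Om K u := (om_single hN 0).act hB
  have hBc : B *ᵥ ![s0, 1, 1] = t • e0 := by
    rw [hAe, Matrix.mulVec_smul, Matrix.mulVec_mulVec, hBA, Matrix.one_mulVec]
  have hu12 : u 1 ≠ 0 ∧ u 2 ≠ 0 := by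
    rw [← not_or]
    intro hor
    -- another point of the line
    obtain ⟨r, hr, hr3⟩ := exists_pow_ne (F := F) 3 (by norm_num) (by omega)
    set c' : V := ![r ^ 3 * s0, 1, 1] with hc'
    have hc'o : Om K c' := om_of_ratio hN ⟨A, hA, t, ht, hAe⟩ (by simpa [prodc] using hv) hr
      (by simp [hc', prodc])
    have hdec : c' = ![s0, 1, 1] + ((r ^ 3 - 1) * s0) • e0 := by
      funext i
      fin_cases i <;> simp [hc', he0d] <;> ring
    have hBc' : B *ᵥ c' = t • e0 + ((r ^ 3 - 1) * s0) • u := by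
      rw [hdec, Matrix.mulVec_add, hBc, Matrix.mulVec_smul, ← hu]
    have hco : (r ^ 3 - 1) * s0 ≠ 0 := mul_ne_zero (sub_ne_zero.2 hr3) hv
    obtain ⟨i, hi0, hi⟩ : ∃ i : Fin 3, i ≠ 0 ∧ u i = 0 := by
      rcases hor with h | h
      · exact ⟨1, by decide, h⟩
      · exact ⟨2, by decide, h⟩
    have hp : prodc u = 0 := by fin_cases i <;> simp_all [prodc]
    rcases trichotomy hu0.ne_zero with h | h | ⟨k, hk⟩
    · exact h hp
    · exact hnoside u hu0 h
    · have huk : u k ≠ 0 := fun e => hu0.ne_zero (by rw [frame_eq hk, e, zero_smul])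
      by_cases hk0 : k = 0
      · subst hk0
        have := congrFun hAu 1
        rw [frame_eq hk, Matrix.mulVec_smul, Matrix.mulVec_single_one, Pi.smul_apply, Matrix.col_apply,
          smul_eq_mul, he0d, Pi.single_eq_of_ne (by decide)] at this
        exact mul_ne_zero huk hA10 this
      · refine hnoside _ (hc'o.act hB) ?_
        obtain ⟨l, hl0, hlk⟩ := third 0 k hk0
        refine ⟨l, ?_, fun j hj => ?_⟩
        · rw [hBc']
          simp [he0d, hl0, hk l hlk]
        · rw [hBc']
          rcases two_of l 0 k j hl0.symm hlk.symm (Ne.symm hk0) hj with rfl | rfl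
          · simp [he0d, hk 0 (Ne.symm hk0), ht]
          · simp [he0d, hk0, huk, hco]
  -- adjust by the torus
  set d : V := ![(u 1 * u 2)⁻¹, u 1, u 2] with hd
  have hdp : ∏ i, d i = 1 := by
    rw [Fin.prod_univ_three, mul_assoc]
    show (u 1 * u 2)⁻¹ * (u 1 * u 2) = 1
    rw [inv_mul_cancel₀ (mul_ne_zero hu12.1 hu12.2)]
  set G := A * Matrix.diagonal d with hG
  have hGK : In K G := hA.mul (In.diagonal hN d hdp)
  set α := (u 1 * u 2)⁻¹ * A 0 0
  set γ := (u 1 * u 2)⁻¹ * A 1 0
  set β := 1 - u 0 * A 0 0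
  set δ := -(u 0 * A 1 0)
  have hGm : ∀ x y : F, G *ᵥ ![x, y, y] = ![α * x + β * y, γ * x + δ * y, γ * x + δ * y] := by
    intro x y
    have e1 : G *ᵥ ![x, y, y] = (x * (u 1 * u 2)⁻¹) • (A *ᵥ e0) + y • (A *ᵥ u - u 0 • (A *ᵥ e0)) := by
      rw [hG, ← Matrix.mulVec_mulVec, ← Matrix.mulVec_smul, ← Matrix.mulVec_smul, ← Matrix.mulVec_sub,
        ← Matrix.mulVec_smul, ← Matrix.mulVec_add]
      congr 1
      funext i
      rw [Matrix.mulVec_diagonal]
      fin_cases i <;> simp [hd, he0d] <;> ring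
    rw [e1, hAu, Matrix.mulVec_single_one]
    funext i
    fin_cases i <;> simp [he0d, hA20, α, β, γ, δ] <;> ring
  have hγ : γ ≠ 0 := mul_ne_zero (inv_ne_zero (mul_ne_zero hu12.1 hu12.2)) hA10
  have hdet : α * δ - β * γ ≠ 0 := by
    rw [show α * δ - β * γ = -γ by simp only [α, β, γ, δ]; ring]
    exact neg_ne_zero.2 hγ
  have hiff : ∀ x y : F, Om K ![α * x + β * y, γ * x + δ * y, γ * x + δ * y] ↔ Om K ![x, y, y] :=
    fun x y => by rw [← hGm]; exact om_act_iff hGK
  have hXnot : ∀ y : F, ¬ Om K ![0, y, y] := fun y h => by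
    by_cases hy : y = 0
    · exact h.ne_zero (by subst hy; funext i; fin_cases i <;> rfl)
    · exact hnoside _ h ⟨0, rfl, fun j hj => by
        fin_cases j
        · exact absurd rfl hj
        · exact hy
        · exact hy⟩
  have hPoint : ∀ x : F, x ≠ 0 → Om K ![x, 0, 0] := fun x hx => by
    have := (om_single (K := K) hN 0).smul hx
    convert this using 1
    funext i; fin_cases i <;> simp
  have hline : ∀ x y : F, y ≠ 0 → (Om K ![x, y, y] ↔ Om K ![x / y, 1, 1]) := fun x y hy => by
    have e : (![x, y, y] : V) = y • ![x / y, 1, 1] := by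
      funext i; fin_cases i <;> simp [mul_div_cancel₀ _ hy]
    rw [e]
    refine ⟨fun h => ?_, fun h => h.smul hy⟩
    have := h.smul (inv_ne_zero hy)
    rwa [smul_smul, inv_mul_cancel₀ hy, one_smul] at this
  -- the classes present
  by_cases hone : ∀ s : F, Om K ![s, 1, 1] → s ^ e = s0 ^ e
  · have hset : ∀ x y : F, Om K ![s0 * x, y, y] ↔ InSet e x y := fun x y => by
      by_cases hy : y = 0
      · subst hy
        by_cases hx : x = 0
        · subst hx
          simp only [mul_zero, InSet, ne_eq, not_true_eq_false, false_and, or_self, iff_false]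
          exact hXnot 0
        · exact ⟨fun _ => Or.inl ⟨hx, rfl⟩, fun _ => hPoint _ (mul_ne_zero hv hx)⟩
      · rw [hline _ _ hy]
        refine ⟨fun h => Or.inr ⟨hy, ?_⟩, fun h => ?_⟩
        · have h1 := hone _ h
          rw [mul_div_assoc, mul_pow, mul_right_eq_self₀, div_pow,
            div_eq_one_iff_eq (pow_ne_zero _ hy)] at h1
          exact h1.resolve_right (pow_ne_zero _ hv)
        · rcases h with ⟨-, h⟩ | ⟨-, h⟩
          · exact absurd h hy
          · refine hOmS s0 _ hv ?_ ?_ ((hbig v hv).1 hvo)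
            · refine div_ne_zero (mul_ne_zero hv ?_) hy
              intro hx
              rw [hx, zero_pow he0] at h
              exact pow_ne_zero _ hy h.symm
            · rw [mul_div_assoc, mul_pow, div_pow, h, div_self (pow_ne_zero _ hy), mul_one]
    obtain ⟨-, h0⟩ := mobius he4 hFe heven μ hμc (fun z hz => (hμ z).1 hz) (A := α) (B := β / s0)
      (C := γ * s0) (D := δ) (by
        rw [show β / s0 * (γ * s0) = β * γ by field_simp]
        exact hdet) fun x y hxy => by
      rw [← hset]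
      have := (hiff (s0 * x) y).2 ((hset x y).2 hxy)
      rwa [show s0 * (α * x + β / s0 * y) = α * (s0 * x) + β * y by field_simp,
        show γ * s0 * x + δ * y = γ * (s0 * x) + δ * y by ring]
    exact mul_ne_zero hγ hv h0
  · push Not at hone
    obtain ⟨s1, hs1o, hs1ne⟩ := hone
    have hs1 : s1 ≠ 0 := fun h => hXnot 1 (h ▸ hs1o)
    -- the missing class
    set s2 := prodc w
    have hs2o : ¬ Om K ![s2, 1, 1] := fun h => hwo ((hbig w hw).2 h)
    have hne02 : s0 ^ e ≠ s2 ^ e := fun h => hs2o (hOmS _ _ hv hw h ((hbig v hv).1 hvo))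
    have hne12 : s1 ^ e ≠ s2 ^ e := fun h => hs2o (hOmS _ _ hs1 hw h hs1o)
    have hthree : ∀ z : F, z ≠ 0 → ¬ Om K ![z, 1, 1] → z ^ e = s2 ^ e := by
      intro z hz hzo
      by_contra hne
      have hR : ({s0 ^ e, s1 ^ e, s2 ^ e, z ^ e} : Finset F) ⊆ (Polynomial.nthRoots 3 (1 : F)).toFinset := by
        intro x hx
        simp only [Finset.mem_insert, Finset.mem_singleton] at hx
        rw [Multiset.mem_toFinset, Polynomial.mem_nthRoots (by norm_num)]
        rcases hx with rfl | rfl | rfl | rfl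
        exacts [hroots _ hv, hroots _ hs1, hroots _ hw, hroots _ hz]
      have hc := (Finset.card_le_card hR).trans
        ((Multiset.toFinset_card_le _).trans (Polynomial.card_nthRoots 3 (1 : F)))
      have h0z : s0 ^ e ≠ z ^ e := fun h => hzo (hOmS _ _ hv hz h ((hbig v hv).1 hvo))
      have h1z : s1 ^ e ≠ z ^ e := fun h => hzo (hOmS _ _ hs1 hz h hs1o)
      simp [Ne.symm hs1ne, hne02, h0z, hne12, h1z, Ne.symm hne] at hc
    have hset : ∀ X Y : F, (¬ (X = 0 ∧ Y = 0) ∧ ¬ Om K ![Y, X / s2, X / s2]) ↔ InSet e X Y := fun X Y => by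
      by_cases hY : Y = 0
      · subst hY
        refine ⟨fun h => Or.inl ⟨fun hX => h.1 ⟨hX, rfl⟩, rfl⟩, fun h => ?_⟩
        rcases h with ⟨hX, -⟩ | ⟨h, -⟩
        · exact ⟨fun h => hX h.1, hXnot _⟩
        · exact absurd rfl h
      · by_cases hX : X = 0
        · subst hX
          refine ⟨fun h => absurd ?_ h.2, fun h => ?_⟩
          · rw [zero_div]; exact hPoint Y hY
          · rcases h with ⟨h, -⟩ | ⟨-, h⟩
            · exact absurd rfl h
            · rw [zero_pow he0] at h; exact absurd h.symm (pow_ne_zero _ hY)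
        · rw [hline _ _ (div_ne_zero hX hw)]
          have hval : (Y / (X / s2)) ^ e = Y ^ e * s2 ^ e / X ^ e := by
            rw [div_div_eq_mul_div, div_pow, mul_pow]
          refine ⟨fun h => Or.inr ⟨hY, ?_⟩, fun h => ⟨fun h' => hX h'.1, fun ho => ?_⟩⟩
          · have h1 := hthree _ (div_ne_zero hY (div_ne_zero hX hw)) h.2
            rw [hval, div_eq_iff (pow_ne_zero _ hX)] at h1
            exact (mul_left_cancel₀ (pow_ne_zero e hw) (by linear_combination h1)).symm
          · rcases h with ⟨-, h⟩ | ⟨-, h⟩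
            · exact hY h
            · refine hs2o (hOmS _ _ (div_ne_zero hY (div_ne_zero hX hw)) hw ?_ ho)
              rw [hval, h, mul_div_assoc, mul_div_cancel₀ _ (pow_ne_zero _ hY)]
    obtain ⟨h0, -⟩ := mobius he4 hFe heven μ hμc (fun z hz => (hμ z).1 hz) (A := δ) (B := s2 * γ)
      (C := β / s2) (D := α) (by
        rw [show s2 * γ * (β / s2) = β * γ by field_simp]
        rw [mul_comm δ α]; exact hdet) fun X Y hXY => by
      obtain ⟨hnz, hno⟩ := (hset X Y).2 hXY
      refine (hset _ _).1 ⟨fun h => hnz ?_, fun ho => hno ?_⟩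
      · have e1 : δ * X + s2 * γ * Y = 0 := h.1
        have e2 : β / s2 * X + α * Y = 0 := h.2
        have eY : (α * δ - β * γ) * Y = 0 := by
          have : β / s2 * X * δ + α * Y * δ = 0 := by rw [← add_mul, e2, zero_mul]
          have hb : β / s2 * s2 = β := div_mul_cancel₀ _ hw
          linear_combination this - (β / s2) * e1 + γ * Y * hb
        have eX : (α * δ - β * γ) * X = 0 := by
          have hb : β / s2 * s2 = β := div_mul_cancel₀ _ hw
          linear_combination α * e1 - s2 * γ * e2 + γ * X * hb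
        exact ⟨(mul_eq_zero.1 eX).resolve_left hdet, (mul_eq_zero.1 eY).resolve_left hdet⟩
      · refine (hiff Y (X / s2)).1 ?_
        rwa [show β / s2 * X + α * Y = α * Y + β * (X / s2) by ring,
          show (δ * X + s2 * γ * Y) / s2 = γ * Y + δ * (X / s2) by field_simp; ring] at ho
    exact mul_ne_zero hw hγ h0

/-- The stabiliser of a decomposition into lines is maximal in `SL_3`. -/
theorem sl_decomposition_maximal_three (hq : 5 ≤ Fintype.card F) {D : Fin 3 → Submodule F (Fin 3 → F)}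
    (hD : IsMDecomposition 1 D) :
    IsMaximalIn (specialLinear (Fin 3) F) (decompositionStabilizer D ⊓ specialLinear (Fin 3) F) := by
  classical
  refine ⟨lt_of_le_of_ne inf_le_right fun e =>
    CfsgLib.Aschbacher.not_le_decompositionStabilizer hD (e ▸ inf_le_left), fun M hM hMG => ?_⟩
  by_cases hle : M ≤ decompositionStabilizer D
  · exact Or.inl (le_antisymm (le_inf hle hMG) hM)
  obtain ⟨g', hg', hgD'⟩ := SetLike.not_le_iff_exists.1 hle
  obtain ⟨g, hg, hge⟩ := exists_sl_of hMG hg'
  have eg : (Matrix.SpecialLinearGroup.toGL g : GL (Fin 3) F) = g' := Units.ext hge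
  refine Or.inr (le_antisymm hMG (specialLinear_le_of_top ?_))
  set K := M.comap Matrix.SpecialLinearGroup.toGL
  have hK : ∀ y : SL, (Matrix.SpecialLinearGroup.toGL y : GL (Fin 3) F) ∈ decompositionStabilizer D →
      y ∈ K := fun y hy => hM ⟨hy, Units.ext y.2⟩
  have hgD : (Matrix.SpecialLinearGroup.toGL g : GL (Fin 3) F) ∉ decompositionStabilizer D := eg.symm ▸ hgD'
  have hne : ∀ i, ∃ b, b ∈ D i ∧ b ≠ 0 := fun i => by
    refine Submodule.exists_mem_ne_zero_of_ne_bot fun h => ?_
    have := hD.finrank_eq i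
    rw [h, finrank_bot] at this
    omega
  choose v hv hv0 using hne
  set P : Mn := Matrix.of fun i j => v j i with hP
  have hPc : ∀ j, P *ᵥ Pi.single j 1 = v j := fun j => by
    rw [Matrix.mulVec_single_one]; rfl
  have hPu : IsUnit P := by
    rw [← Matrix.linearIndependent_cols_iff_isUnit]
    exact hD.indep.linearIndependent D hv hv0
  have hPd := (Matrix.isUnit_iff_isUnit_det P).1 hPu
  have h1 : P * P⁻¹ = 1 := Matrix.mul_nonsing_inv P hPd
  have h2 : P⁻¹ * P = 1 := Matrix.nonsing_inv_mul P hPd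
  let ψ : SL →* SL :=
    MonoidHom.mk' (fun y => ⟨P * y.1 * P⁻¹, by
      rw [Matrix.det_mul, Matrix.det_mul, mul_right_comm, ← Matrix.det_mul, h1, Matrix.det_one,
        one_mul, y.2]⟩) fun y z => Subtype.ext (by
      show P * (y.1 * z.1) * P⁻¹ = P * y.1 * P⁻¹ * (P * z.1 * P⁻¹)
      rw [show P * y.1 * P⁻¹ * (P * z.1 * P⁻¹) = P * y.1 * (P⁻¹ * P) * z.1 * P⁻¹ by
        simp only [mul_assoc], h2, mul_one]
      simp only [mul_assoc])
  have hψv : ∀ y : SL, (ψ y).1 = P * y.1 * P⁻¹ := fun y => rfl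
  have key : ∀ (y : SL) (j : Fin 3), (ψ y).1 *ᵥ v j = P *ᵥ (y.1.col j) := fun y j => by
    rw [hψv, ← hPc, Matrix.mulVec_mulVec, mul_assoc, h2, mul_one, ← Matrix.mulVec_mulVec,
      Matrix.mulVec_single_one]
  have hspan : ∀ j x, x ∈ D j → ∃ r : F, r • v j = x := fun j x hx => by
    obtain ⟨r, hr⟩ := (finrank_eq_one_iff_of_nonzero' (⟨v j, hv j⟩ : D j)
      (by simpa using hv0 j)).1 (hD.finrank_eq j) ⟨x, hx⟩
    exact ⟨r, congrArg Subtype.val hr⟩
  have mono_stab : ∀ y : SL, Mono y.1 →
      (Matrix.SpecialLinearGroup.toGL (ψ y) : GL (Fin 3) F) ∈ decompositionStabilizer D := by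
    intro y hy
    refine MaxSub.Decomp.mem_stab_of hD fun j => ?_
    obtain ⟨i, hi⟩ := hy j
    refine ⟨i, fun x hx => ?_⟩
    obtain ⟨r, rfl⟩ := hspan j x hx
    show (ψ y).1 *ᵥ (r • v j) ∈ D i
    rw [Matrix.mulVec_smul, key, show y.1.col j = y.1 i j • (Pi.single i 1 : V) from
      funext fun k => by
        by_cases hk : k = i
        · subst hk; simp [Matrix.col_apply]
        · simp [Matrix.col_apply, hk, hi k hk],
      Matrix.mulVec_smul, hPc]
    exact (D i).smul_mem _ ((D i).smul_mem _ (hv i))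
  have hN : HasMono (K.comap ψ) := fun y hy => hK _ (mono_stab y hy)
  let back : SL → SL := fun z => ⟨P⁻¹ * z.1 * P, by
    rw [Matrix.det_mul, Matrix.det_mul, mul_right_comm, ← Matrix.det_mul, h2, Matrix.det_one,
      one_mul, z.2]⟩
  have hback : ∀ z, ψ (back z) = z := fun z => Subtype.ext (by
    show P * (P⁻¹ * z.1 * P) * P⁻¹ = z.1
    rw [show P * (P⁻¹ * z.1 * P) * P⁻¹ = (P * P⁻¹) * z.1 * (P * P⁻¹) by simp only [mul_assoc], h1,
      one_mul, mul_one])
  have htop : K.comap ψ = ⊤ := top_of_not_mono_three hq hN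
    (g₀ := (back g).1) ⟨back g, (by show ψ (back g) ∈ K; rw [hback]; exact hg), rfl⟩
    fun h => hgD (hback g ▸ mono_stab _ h)
  refine eq_top_iff.2 fun z _ => ?_
  have hz : back z ∈ K.comap ψ := by rw [htop]; exact Subgroup.mem_top _
  have hz' : ψ (back z) ∈ K := hz
  rwa [hback] at hz'

end CfsgLib.MaxSub.SLThree.Decomp
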